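import Groth.Agent.FunFld1.ConstComp
import Groth.Agent.FunFld1.IntClosure

/-! The conductor of `k' ⊗ O_P`. -/

open FunFld Groth.FunFld1
open WithZero (exp)
open scoped TensorProduct

set_option linter.unusedSectionVars false

namespace Groth.Funfld2.Small.Conductor

universe u

variable {k k' : Type u} {K K' : Type*} [Field k] [Field k'] [Field K] [Field K'] [Algebra k k']
  [FiniteDimensional k k'] [Algebra k K] [Algebra K K'] [Algebra k' K'] [Algebra k K']
  [IsScalarTower k k' K'] [IsScalarTower k K K']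
  (h : Function.Bijective (Algebra.TensorProduct.productMap
    (IsScalarTower.toAlgHom k k' K') (IsScalarTower.toAlgHom k K K')))

include h

theorem conductor (hF : IsFF k K) (P : Place k K) [Algebra P.O K'] [IsScalarTower P.O K K'] :
    (∃ V : Submodule k K', FiniteDimensional k V ∧ ∀ r ∈ integralClosure P.O K',
        ∃ s ∈ Algebra.adjoin P.O (Set.range (algebraMap k' K')), r - s ∈ V) ∧
    (∃ c ∈ integralClosure P.O K', c ≠ 0 ∧ ∀ r ∈ integralClosure P.O K',
        c * r ∈ Algebra.adjoin P.O (Set.range (algebraMap k' K'))) := by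
  classical
  have hfin := finiteDimensional_of_tensor h
  set Rt := Algebra.adjoin P.O (Set.range (algebraMap k' K')) with hRt
  obtain ⟨t, ht0, ht⟩ := exists_uniformizer P
  have hmem : ∀ (a : K), P.1 a ≤ 1 → algebraMap K K' a ∈ Rt := fun a ha =>
    (algebraMap_O_apply (K' := K') (⟨a, ha⟩ : P.O)) ▸ Rt.algebraMap_mem _
  -- denominators
  have hden : ∀ z : K', ∃ n : ℕ, ∀ m, n ≤ m → algebraMap K K' (t ^ m) * z ∈ Rt := by
    intro z
    obtain ⟨x, rfl⟩ := h.2 z
    induction x using TensorProduct.induction_on with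
    | zero => exact ⟨0, fun m _ => by simp⟩
    | tmul c a =>
      refine ⟨(-P.ord a).toNat, fun m hm => ?_⟩
      rw [Algebra.TensorProduct.productMap_apply_tmul]
      change algebraMap K K' (t ^ m) * (algebraMap k' K' c * algebraMap K K' a) ∈ Rt
      rw [mul_left_comm, ← map_mul]
      refine mul_mem (Algebra.subset_adjoin ⟨c, rfl⟩) (hmem _ ?_)
      rcases eq_or_ne a 0 with rfl | ha
      · simp
      rw [map_mul, map_pow, ht, val_eq_exp_neg_ord P ha, ← WithZero.exp_nsmul, ← WithZero.exp_add,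
        ← WithZero.exp_zero, WithZero.exp_le_exp, nsmul_eq_mul]
      omega
    | add a b ha hb =>
      obtain ⟨n, hn⟩ := ha
      obtain ⟨n', hn'⟩ := hb
      exact ⟨max n n', fun m hm => by
        rw [map_add, mul_add]; exact add_mem (hn m (by omega)) (hn' m (by omega))⟩
  obtain ⟨b, B, hBb, hrep⟩ := hF.exists_integralClosure_basis (K' := K') P
  choose n hn using hden
  set N := Finset.univ.sup fun i => n (b i) with hN
  set T := algebraMap K K' (t ^ N) with hT
  have hT0 : T ≠ 0 := by rw [hT, map_ne_zero]; exact pow_ne_zero _ ht0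
  have hcR : ∀ r ∈ integralClosure P.O K', T * r ∈ Rt := by
    intro r hr
    have hri : ∀ i, P.1 (b.repr r i) ≤ 1 := fun i => hrep ⟨r, hr⟩ i ▸ (B.repr ⟨r, hr⟩ i).2
    rw [← b.sum_repr r, Finset.mul_sum]
    refine sum_mem fun i _ => ?_
    rw [Algebra.smul_def, mul_left_comm]
    exact mul_mem (hmem _ (hri i)) (hn _ N (Finset.le_sup (f := fun i => n (b i)) (Finset.mem_univ i)))
  have hTint : T ∈ integralClosure P.O K' := by
    have ht1 : P.1 (t ^ N) ≤ 1 := by
      rw [map_pow, ht, ← WithZero.exp_nsmul, ← WithZero.exp_zero, WithZero.exp_le_exp, nsmul_eq_mul]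
      omega
    rw [hT, ← algebraMap_O_apply (K' := K') (⟨_, ht1⟩ : P.O)]
    exact Subalgebra.algebraMap_mem _ _
  refine ⟨?_, T, hTint, hT0, hcR⟩
  have hF' : IsFF k K' := hF.ext
  let m : Place k K' → ℕ := fun Q => (Q.ord T).toNat
  obtain ⟨hle, hquot, -⟩ := hF'.qfin_sball (hF.above P) 0 m
  obtain ⟨C, hC⟩ := Submodule.exists_isCompl (Submodule.comap (SBall (hF.above P) (0 : Place k K' → ℤ)).subtype
    (SBall (hF.above P) fun Q => (0 : Place k K' → ℤ) Q - (m Q : ℤ)))
  have : FiniteDimensional k C := (Submodule.quotientEquivOfIsCompl _ _ hC).finiteDimensional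
  refine ⟨C.map (SBall (hF.above P) (0 : Place k K' → ℤ)).subtype, inferInstance, fun r hr => ?_⟩
  have hrS : r ∈ SBall (hF.above P) (0 : Place k K' → ℤ) := mem_SBall.2 fun Q hQ => by
    simpa using (hF.mem_integralClosure_iff P r).1 hr Q (hF.mem_above.1 hQ)
  obtain ⟨a, ha, c, hc, hac⟩ := Submodule.mem_sup.1
    (hC.sup_eq_top ▸ Submodule.mem_top : (⟨r, hrS⟩ : SBall (hF.above P) (0 : Place k K' → ℤ)) ∈ _ ⊔ C)
  refine ⟨a.1, ?_, ⟨c, hc, ?_⟩⟩
  · have hdiv : a.1 / T ∈ integralClosure P.O K' := (hF.mem_integralClosure_iff P _).2 fun Q hQ => by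
      have h1 : Q.1 a.1 ≤ exp ((0 : ℤ) - (m Q : ℤ)) := mem_SBall.1 ha Q (hF.mem_above.2 hQ)
      have h2 : Q.1 T ≤ 1 := (hF.mem_integralClosure_iff P T).1 hTint Q hQ
      rw [map_div₀, div_le_one₀ (zero_lt_iff.2 ((Valuation.ne_zero_iff _).2 hT0))]
      refine h1.trans_eq ?_
      rw [val_eq_exp_neg_ord Q hT0] at h2 ⊢
      rw [← WithZero.exp_zero, WithZero.exp_le_exp] at h2
      congr 1
      simp only [m]
      omega
    have := hcR _ hdiv
    rwa [mul_div_cancel₀ _ hT0] at this
  · have h3 := congrArg Subtype.val hac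
    rw [← sub_eq_zero] at h3
    rw [← sub_eq_zero]
    simp only [Submodule.coe_add] at h3
    change (c : K') - (r - a.1) = 0
    rw [← h3]; ring

end Groth.Funfld2.Small.Conductor
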