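import Groth.Agent.FunFld1.ConstComp
import Groth.Agent.FunFld1.IntClosure
import Mathlib.FieldTheory.IsAlgClosed.Basic
import Mathlib.RingTheory.Valuation.Extension

/-! Residue fields and fields of definition in constant field extensions. -/

set_option linter.unusedSectionVars false

open FunFld Groth.FunFld1
open WithZero (exp)
open scoped TensorProduct

namespace Groth.Funfld2.Small.ConstField

universe u

section Residue

variable {k k' K K' : Type*} [Field k] [Field k'] [Field K] [Field K'] [Algebra k K] [Algebra K K']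
  [Algebra k' K'] [Algebra k K'] [IsScalarTower k K K'] [FiniteDimensional K K']

theorem isOver_of_hasExtension (hF : IsFF k K) (P : Place k K) (Q : Place k K')
    [P.1.HasExtension Q.1] : IsOver Q P := by
  obtain ⟨P', hP'⟩ := hF.exists_isOver Q
  refine isOver_of_le_one hP' fun x hx => ?_
  exact (Valuation.HasExtension.val_isEquiv_comap (vR := P.1) (vA := Q.1)).le_one_iff_le_one.1 hx

/-- If `O_P[k']` is integrally closed then `F_Q = k' F_P`. -/
theorem residueField_eq_adjoin (hF : IsFF k K) (P : Place k K) [Algebra P.O K']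
    [IsScalarTower P.O K K']
    (hns : (integralClosure P.O K').toSubring =
      (Algebra.adjoin P.O (Set.range (algebraMap k' K'))).toSubring)
    (Q : Place k K') [P.1.HasExtension Q.1] (hQP : IsOver Q P)
    (hk' : ∀ c : k', Q.1 (algebraMap k' K' c) ≤ 1) :
    Algebra.adjoin (IsLocalRing.ResidueField P.O)
      (Set.range fun c : k' => IsLocalRing.residue Q.O ⟨algebraMap k' K' c, hk' c⟩) = ⊤ := by
  classical
  set A := Algebra.adjoin (IsLocalRing.ResidueField P.O)
    (Set.range fun c : k' => IsLocalRing.residue Q.O ⟨algebraMap k' K' c, hk' c⟩)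
  rw [eq_top_iff]
  intro a _
  obtain ⟨⟨z, hz⟩, rfl⟩ := IsLocalRing.residue_surjective a
  obtain ⟨z', hz'⟩ := exists_val_sub_le (hF.above P) (fun R => if R = Q then z else 0) fun _ => -1
  have hzQ : Q.1 (z' - z) < 1 := by
    rw [lt_one_iff_le_exp_neg_one]
    simpa using hz' Q (hF.mem_above.2 hQP)
  have hint : z' ∈ integralClosure P.O K' := (hF.mem_integralClosure_iff P z').2 fun R hR => by
    by_cases hRQ : R = Q
    · subst hRQ
      rw [show z' = (z' - z) + z by ring]
      exact Valuation.map_add_le _ hzQ.le hz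
    · have := hz' R (hF.mem_above.2 hR)
      rw [if_neg hRQ, sub_zero] at this
      exact this.trans (by rw [← WithZero.exp_zero, WithZero.exp_le_exp]; norm_num)
  have hadj : z' ∈ Algebra.adjoin P.O (Set.range (algebraMap k' K')) := by
    have : z' ∈ (integralClosure P.O K').toSubring := hint
    rwa [hns] at this
  have key : ∀ w ∈ Algebra.adjoin P.O (Set.range (algebraMap k' K')),
      ∃ hw : Q.1 w ≤ 1, IsLocalRing.residue Q.O ⟨w, hw⟩ ∈ A := by
    intro w hw
    induction hw using Algebra.adjoin_induction with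
    | mem w hw =>
      obtain ⟨c, rfl⟩ := hw
      exact ⟨hk' c, Algebra.subset_adjoin ⟨c, rfl⟩⟩
    | algebraMap r =>
      have hr : Q.1 (algebraMap P.O K' r) ≤ 1 := by
        rw [algebraMap_O_apply]; exact (over_le_one_iff hQP r.1).2 r.2
      refine ⟨hr, ?_⟩
      rw [show (⟨algebraMap P.O K' r, hr⟩ : Q.O) = algebraMap P.O Q.O r from
        Subtype.ext (algebraMap_O_apply r), ← IsLocalRing.ResidueField.algebraMap_residue]
      exact Subalgebra.algebraMap_mem A _
    | add x y _ _ hx hy =>
      obtain ⟨hx, hxA⟩ := hx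
      obtain ⟨hy, hyA⟩ := hy
      exact ⟨Valuation.map_add_le _ hx hy, by
        rw [show (⟨x + y, _⟩ : Q.O) = ⟨x, hx⟩ + ⟨y, hy⟩ from rfl, map_add]; exact add_mem hxA hyA⟩
    | mul x y _ _ hx hy =>
      obtain ⟨hx, hxA⟩ := hx
      obtain ⟨hy, hyA⟩ := hy
      exact ⟨(map_mul Q.1 x y).trans_le (mul_le_one' hx hy), by
        rw [show (⟨x * y, _⟩ : Q.O) = ⟨x, hx⟩ * ⟨y, hy⟩ from rfl, map_mul]; exact mul_mem hxA hyA⟩
  obtain ⟨hw, hwA⟩ := key z' hadj
  have : IsLocalRing.residue Q.O ⟨z', hw⟩ = IsLocalRing.residue Q.O ⟨z, hz⟩ :=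
    sub_eq_zero.1 (by
      rw [← map_sub]
      exact (residue_eq_zero_iff Q _).2 hzQ)
  rwa [this] at hwA

end Residue

section Definition

variable {k kbar : Type u} {K Kbar : Type*} [Field k] [Field kbar] [Field K] [Field Kbar]
  [Algebra k kbar] [Algebra.IsAlgebraic k kbar] [Algebra k K] [Algebra K Kbar] [Algebra kbar Kbar]
  [Algebra k Kbar] [IsScalarTower k kbar Kbar] [IsScalarTower k K Kbar]
  (h : Function.Bijective (Algebra.TensorProduct.productMap
    (IsScalarTower.toAlgHom k kbar Kbar) (IsScalarTower.toAlgHom k K Kbar)))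

include h

/-- Every element is defined over finitely many constants. -/
theorem exists_finset_mem (z : Kbar) :
    ∃ S : Finset kbar, ∀ (A : Subalgebra K Kbar), (∀ c ∈ S, algebraMap kbar Kbar c ∈ A) → z ∈ A := by
  classical
  obtain ⟨t, rfl⟩ := h.2 z
  induction t using TensorProduct.induction_on with
  | zero => exact ⟨∅, fun A _ => by simp⟩
  | tmul c a =>
    refine ⟨{c}, fun A hA => ?_⟩
    rw [Algebra.TensorProduct.productMap_apply_tmul]
    exact mul_mem (hA c (Finset.mem_singleton_self c)) (Subalgebra.algebraMap_mem A a)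
  | add a b ha hb =>
    obtain ⟨S, hS⟩ := ha
    obtain ⟨T, hT⟩ := hb
    refine ⟨S ∪ T, fun A hA => ?_⟩
    rw [map_add]
    exact add_mem (hS A fun c hc => hA c (Finset.mem_union_left _ hc))
      (hT A fun c hc => hA c (Finset.mem_union_right _ hc))

/-- The scalar extension to the algebraic closure is a function field of one variable. -/
theorem isFF_bar (hF : IsFF k K) : IsFF kbar Kbar := by
  classical
  obtain ⟨x, hx, hfin⟩ := hF
  refine ⟨algebraMap K Kbar x, fun halg => hx ?_, ?_⟩
  · have := IsAlgebraic.restrictScalars k halg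
    rwa [isAlgebraic_algebraMap_iff (algebraMap K Kbar).injective] at this
  · let b := Module.finBasis (IntermediateField.adjoin k ({x} : Set K)) K
    refine ⟨⟨Finset.univ.image fun i => algebraMap K Kbar (b i), ?_⟩⟩
    rw [eq_top_iff]
    intro z _
    obtain ⟨t, rfl⟩ := h.2 z
    induction t using TensorProduct.induction_on with
    | zero => simp
    | tmul c a =>
      rw [Algebra.TensorProduct.productMap_apply_tmul, ← b.sum_repr a, map_sum, Finset.mul_sum]
      refine Submodule.sum_mem _ fun i _ => ?_
      rw [IntermediateField.smul_def, smul_eq_mul, map_mul]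
      change algebraMap kbar Kbar c * (algebraMap K Kbar _ * algebraMap K Kbar (b i)) ∈ _
      rw [← mul_assoc]
      have hmem : algebraMap kbar Kbar c * algebraMap K Kbar (b.repr a i : K) ∈
          IntermediateField.adjoin kbar ({algebraMap K Kbar x} : Set Kbar) :=
        mul_mem (IntermediateField.algebraMap_mem _ c)
          (algebraMap_mem_adjoin_base (k := k) (k' := kbar) x (b.repr a i).2)
      exact Submodule.smul_mem _ (⟨_, hmem⟩ : IntermediateField.adjoin kbar ({algebraMap K Kbar x} : Set Kbar))
        (Submodule.subset_span (Finset.mem_coe.2 (Finset.mem_image_of_mem _ (Finset.mem_univ i))))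
    | add a b ha hb => rw [map_add]; exact add_mem (ha trivial) (hb trivial)

/-- A place of `K̄` is defined over a finite extension. -/
theorem defined_over_finite (hF : IsFF k K) (Q : Place kbar Kbar) :
    ∃ k' : IntermediateField k kbar, FiniteDimensional k k' ∧
      (∃ z ∈ Algebra.adjoin K (Set.range fun c : k' => algebraMap kbar Kbar c), Q.1 z = exp (-1 : ℤ)) ∧
      ∀ Q' : Place kbar Kbar,
        (∃ e : ℕ, ∀ z ∈ Algebra.adjoin K (Set.range fun c : k' => algebraMap kbar Kbar c),
          Q'.1 z = Q.1 z ^ e) → Q' = Q := by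
  classical
  obtain ⟨t, ht⟩ := exists_val_eq_exp Q (-1)
  obtain ⟨w, hw, hwo⟩ := (isFF_bar h hF).exists_pole_only Q
  obtain ⟨S, hS⟩ := exists_finset_mem h t
  obtain ⟨T, hT⟩ := exists_finset_mem h w
  set k' := IntermediateField.adjoin k ((S ∪ T : Finset kbar) : Set kbar)
  have hmem : ∀ c ∈ S ∪ T, algebraMap kbar Kbar c ∈
      Algebra.adjoin K (Set.range fun c : k' => algebraMap kbar Kbar c) := fun c hc =>
    Algebra.subset_adjoin ⟨⟨c, IntermediateField.subset_adjoin k _ (Finset.mem_coe.2 hc)⟩, rfl⟩
  refine ⟨k', IntermediateField.finiteDimensional_adjoin fun c _ =>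
      (Algebra.IsAlgebraic.isAlgebraic c).isIntegral,
    ⟨t, hS _ fun c hc => hmem c (Finset.mem_union_left _ hc), ht⟩, ?_⟩
  rintro Q' ⟨e, he⟩
  by_contra hne
  have he0 : e ≠ 0 := by
    rintro rfl
    -- a parameter of `Q` would be a unit, and so would every element of `k'K`
    have h1 := he 0 (zero_mem _)
    simp at h1
  have h2 := he w (hT _ fun c hc => hmem c (Finset.mem_union_right _ hc))
  have h3 := hwo Q' hne
  rw [h2, pow_le_one_iff_of_nonneg zero_le he0] at h3
  exact not_le.2 hw h3

end Definition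

end Groth.Funfld2.Small.ConstField
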