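import Groth.Agent.Funfld2.Small.Tower
import Groth.Agent.FunFld1.ConstClosure
import Groth.Agent.Funfld2.Different.Hurwitz
import Mathlib.FieldTheory.PurelyInseparable.Basic
import Mathlib.FieldTheory.IsAlgClosed.AlgebraicClosure

/-! The places over a nonsingular place in a splitting field. -/

open FunFld Groth.FunFld1 Polynomial
open WithZero (exp)
open scoped TensorProduct

set_option linter.unusedSectionVars false
set_option linter.style.haveILetI false

namespace Groth.Funfld2.Small.Count

universe u

variable {k k' : Type u} {K K' : Type*} [Field k] [Field k'] [Field K] [Field K'] [Algebra k k']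
  [FiniteDimensional k k'] [Algebra k K] [Algebra K K'] [Algebra k' K'] [Algebra k K']
  [IsScalarTower k k' K'] [IsScalarTower k K K']

/-- At a place of degree one every residue is a constant. -/
theorem exists_const (Q : Place k' K') (hd : Q.deg = 1) {z : K'} (hz : Q.1 z ≤ 1) :
    ∃ c : k', Q.1 (z - algebraMap k' K' c) < 1 := by
  obtain ⟨c, hc⟩ := (finrank_eq_one_iff_of_nonzero' (K := k')
    (1 : IsLocalRing.ResidueField Q.O) one_ne_zero).1 hd (IsLocalRing.residue Q.O ⟨z, hz⟩)
  replace hc := ((Algebra.smul_def c _).trans (mul_one _)).symm.trans hc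
  refine ⟨c, ?_⟩
  have h := (residue_eq_zero_iff Q (⟨z, hz⟩ - algebraMap k' Q.O c)).1
    (by rw [map_sub, ← hc]; exact sub_self _)
  exact h

theorem const_unique (Q : Place k' K') {c : k'} (hc : Q.1 (algebraMap k' K' c) < 1) : c = 0 := by
  by_contra h0
  have h := mul_lt_one_of_lt_of_le hc (Q.2.1 c⁻¹)
  rw [← map_mul, ← map_mul, mul_inv_cancel₀ h0, map_one, map_one] at h
  exact lt_irrefl _ h

/-- The embedding of the residue field given by a place of degree one. -/
theorem exists_emb (P : Place k K) (Q : Place k' K')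
    (hle : ∀ a : K, P.1 a ≤ 1 → Q.1 (algebraMap K K' a) ≤ 1)
    (hlt : ∀ a : K, P.1 a < 1 → Q.1 (algebraMap K K' a) < 1) (hd : Q.deg = 1) :
    ∃ σ : IsLocalRing.ResidueField P.O →ₐ[k] k', ∀ a : P.O,
      Q.1 (algebraMap K K' a - algebraMap k' K' (σ (IsLocalRing.residue P.O a))) < 1 := by
  choose c hc using fun a : P.O => exists_const Q hd (hle a a.2)
  have huniq : ∀ (a : P.O) (d : k'),
      Q.1 (algebraMap K K' a - algebraMap k' K' d) < 1 → c a = d := fun a d hd => by
    refine sub_eq_zero.1 (const_unique Q ?_)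
    rw [map_sub, show algebraMap k' K' (c a) - algebraMap k' K' d =
      (algebraMap K K' a - algebraMap k' K' d) - (algebraMap K K' a - algebraMap k' K' (c a)) by ring]
    exact (Valuation.map_sub _ _ _).trans_lt (max_lt hd (hc a))
  let g : P.O →+* k' :=
    { toFun := c
      map_one' := huniq 1 1 (by simp)
      map_zero' := huniq 0 0 (by simp)
      map_add' := fun a b => huniq _ _ (by
        rw [AddMemClass.coe_add, map_add, map_add, add_sub_add_comm]
        exact Valuation.map_add_lt _ (hc a) (hc b))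
      map_mul' := fun a b => huniq _ _ (by
        rw [MulMemClass.coe_mul, map_mul, map_mul,
          show algebraMap K K' a * algebraMap K K' b - algebraMap k' K' (c a) * algebraMap k' K' (c b) =
            algebraMap K K' a * (algebraMap K K' b - algebraMap k' K' (c b)) +
            (algebraMap K K' a - algebraMap k' K' (c a)) * algebraMap k' K' (c b) by ring]
        refine Valuation.map_add_lt _ ?_ ?_
        · rw [map_mul]; exact mul_lt_one_of_nonneg_of_lt_one_right (hle a a.2) zero_le (hc b)
        · rw [map_mul]; exact mul_lt_one_of_lt_of_le (hc a) (Q.2.1 _)) }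
  have hker : ∀ a ∈ IsLocalRing.maximalIdeal P.O, g a = 0 := fun a ha => huniq a 0 (by
    rw [map_zero, sub_zero]
    exact hlt _ ((residue_eq_zero_iff P a).1 (Ideal.Quotient.eq_zero_iff_mem.2 ha)))
  refine ⟨{ toRingHom := Ideal.Quotient.lift (IsLocalRing.maximalIdeal P.O) g hker
            commutes' := fun d => huniq _ _ ?_ }, fun a => hc a⟩
  change Q.1 (algebraMap K K' (algebraMap k K d) - algebraMap k' K' (algebraMap k k' d)) < 1
  rw [← IsScalarTower.algebraMap_apply k K K', ← IsScalarTower.algebraMap_apply k k' K', sub_self,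
    map_zero]
  exact zero_lt_one

/-- Separable residues become constant modulo the prime of `P`. -/
theorem sub_const_le (P : Place k K) (Q : Place k' K') (e : ℕ)
    (he : ∀ z : K, Q.1 (algebraMap K K' z) = P.1 z ^ e)
    {σ : IsLocalRing.ResidueField P.O →ₐ[k] k'} (hσ : ∀ a : P.O,
      Q.1 (algebraMap K K' a - algebraMap k' K' (σ (IsLocalRing.residue P.O a))) < 1)
    (a : P.O) (hs : IsSeparable k (IsLocalRing.residue P.O a)) :
    Q.1 (algebraMap K K' a - algebraMap k' K' (σ (IsLocalRing.residue P.O a))) ≤ exp (-(e : ℤ)) := by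
  set r := IsLocalRing.residue P.O a with hr
  set m := minpoly k r with hm
  set c := σ r
  set a' := algebraMap K K' a
  set c' := algebraMap k' K' c
  have hroot : IsRoot (m.map (algebraMap k k')) c := by
    rw [IsRoot.def, eval_map_algebraMap]
    exact (aeval_algHom_apply σ r m).trans (by rw [hm, minpoly.aeval, map_zero])
  obtain ⟨g, hg⟩ := dvd_iff_isRoot.2 hroot
  have hgc : g.eval c ≠ 0 := by
    have hd : aeval c (derivative m) ≠ 0 := by
      rw [aeval_algHom_apply σ r, _root_.map_ne_zero]
      exact hs.aeval_derivative_ne_zero (minpoly.aeval k r)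
    rw [← eval_map_algebraMap, ← derivative_map, hg, derivative_mul] at hd
    simpa using hd
  have hmP : P.1 ((aeval a m : P.O) : K) < 1 :=
    (residue_eq_zero_iff P _).1 ((aeval_algHom_apply (resK P) a m).symm.trans
      (show aeval r m = 0 from minpoly.aeval k r))
  have e1 : algebraMap K K' ((aeval a m : P.O) : K) = aeval a' m := by
    rw [show ((aeval a m : P.O) : K) = inclK P (aeval a m) from rfl, ← aeval_algHom_apply (inclK P),
      ← aeval_algebraMap_apply]
    rfl
  have e2 : aeval a' m = (a' - c') * aeval a' g := by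
    rw [← aeval_map_algebraMap k', hg, map_mul, map_sub, aeval_X, aeval_C]
  have ha1 : Q.1 a' ≤ 1 := by rw [he]; exact pow_le_one₀ zero_le a.2
  have hg1 : Q.1 (aeval a' g) = 1 := by
    obtain ⟨w, hw⟩ := sub_dvd_eval_sub (⟨a', ha1⟩ : Q.O) (algebraMap k' Q.O c) (g.map (algebraMap k' Q.O))
    have h1 := congrArg (fun t : Q.O => (t : K')) hw
    simp only [eval_map_algebraMap, AddSubgroupClass.coe_sub, MulMemClass.coe_mul] at h1
    rw [show ((aeval (⟨a', ha1⟩ : Q.O) g : Q.O) : K') = aeval a' g from
        (aeval_algHom_apply (inclK Q) (⟨a', ha1⟩ : Q.O) g).symm,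
      show ((aeval (algebraMap k' Q.O c) g : Q.O) : K') = algebraMap k' K' (g.eval c) from by
        rw [aeval_algebraMap_apply_eq_algebraMap_eval]; rfl] at h1
    have hc1 : Q.1 (algebraMap k' K' (g.eval c)) = 1 :=
      (Q.2.1 _).antisymm (not_lt.1 fun hlt => hgc (const_unique Q hlt))
    rw [show aeval a' g = algebraMap k' K' (g.eval c) + (a' - c') * (w : K') by
      rw [← eq_sub_iff_add_eq'.1 h1.symm]; rfl]
    rw [Valuation.map_add_eq_of_lt_left _ ?_, hc1]
    rw [hc1, map_mul]
    exact mul_lt_one_of_lt_of_le (hσ a) w.2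
  have h2 := congrArg Q.1 (e1.trans e2)
  rw [map_mul, hg1, mul_one, he] at h2
  rw [← h2]
  calc P.1 ((aeval a m : P.O) : K) ^ e ≤ exp (-1 : ℤ) ^ e :=
        pow_le_pow_left₀ zero_le (lt_one_iff_le_exp_neg_one.1 hmP) e
    _ = exp (-(e : ℤ)) := by rw [← WithZero.exp_nsmul]; simp

/-- Distinct places over `P` give distinct embeddings. -/
theorem eq_of_emb_eq [FiniteDimensional K K'] (hF : IsFF k K) (P : Place k K)
    (hns : integralClosure (P.O.toSubring.map (algebraMap K K')) K' =
      Algebra.adjoin (P.O.toSubring.map (algebraMap K K')) (Set.range (algebraMap k' K')))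
    (Q Q' : Place k' K') (hQ : IsOver ((Different.placeUp k k').symm Q) P)
    (hQ' : IsOver ((Different.placeUp k k').symm Q') P)
    (σ : IsLocalRing.ResidueField P.O → k')
    (hσ : ∀ a : P.O,
      Q.1 (algebraMap K K' a - algebraMap k' K' (σ (IsLocalRing.residue P.O a))) < 1)
    (hσ' : ∀ a : P.O,
      Q'.1 (algebraMap K K' a - algebraMap k' K' (σ (IsLocalRing.residue P.O a))) < 1) :
    Q = Q' := by
  classical
  by_contra hne
  set R := (Different.placeUp k k').symm Q
  set R' := (Different.placeUp k k').symm Q'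
  have hne' : R' ≠ R := fun h => hne ((Different.placeUp k k').symm.injective h).symm
  obtain ⟨z, hz⟩ := exists_val_sub_le (hF.above P) (fun S => if S = R then 1 else 0) fun _ => -1
  have hzR : Q.1 (z - 1) < 1 := by
    have := hz R (hF.mem_above.2 hQ)
    rw [if_pos rfl] at this
    exact lt_one_iff_le_exp_neg_one.2 this
  have hzR' : Q'.1 z < 1 := by
    have := hz R' (hF.mem_above.2 hQ')
    rw [if_neg hne', sub_zero] at this
    exact lt_one_iff_le_exp_neg_one.2 this
  have hmem : z ∈ integralClosure (P.O.toSubring.map (algebraMap K K')) K' := by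
    refine (Tower.mem_integralClosure_image hF P z).2 fun S hS => ?_
    have := (hz S (hF.mem_above.2 hS)).trans (exp_le_one.2 (by norm_num))
    by_cases hSR : S = R
    · rw [if_pos hSR] at this
      rw [show z = (z - 1) + 1 by ring]
      exact Valuation.map_add_le _ this (map_one _).le
    · rwa [if_neg hSR, sub_zero] at this
  rw [hns] at hmem
  have key : ∀ w ∈ Algebra.adjoin (P.O.toSubring.map (algebraMap K K')) (Set.range (algebraMap k' K')),
      ∃ c : k', Q.1 (w - algebraMap k' K' c) < 1 ∧ Q'.1 (w - algebraMap k' K' c) < 1 := by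
    intro w hw
    induction hw using Algebra.adjoin_induction with
    | mem x hx => obtain ⟨c, rfl⟩ := hx; exact ⟨c, by simp⟩
    | algebraMap t =>
      obtain ⟨a, ha, hat⟩ := t.2
      rw [show algebraMap _ K' t = algebraMap K K' a from hat.symm]
      exact ⟨_, hσ ⟨a, ha⟩, hσ' ⟨a, ha⟩⟩
    | add x y _ _ hx hy =>
      obtain ⟨c, hc, hc'⟩ := hx
      obtain ⟨d, hd, hd'⟩ := hy
      refine ⟨c + d, ?_, ?_⟩ <;> rw [map_add, add_sub_add_comm] <;> exact Valuation.map_add_lt _ ‹_› ‹_›
    | mul x y _ _ hx hy =>
      obtain ⟨c, hc, hc'⟩ := hx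
      obtain ⟨d, hd, hd'⟩ := hy
      refine ⟨c * d, ?_⟩
      have e : x * y - algebraMap k' K' (c * d) = (x - algebraMap k' K' c) * (y - algebraMap k' K' d) +
          ((x - algebraMap k' K' c) * algebraMap k' K' d + algebraMap k' K' c * (y - algebraMap k' K' d)) := by
        rw [map_mul]; ring
      have aux : ∀ S : Place k' K', S.1 (x - algebraMap k' K' c) < 1 → S.1 (y - algebraMap k' K' d) < 1 →
          S.1 (x * y - algebraMap k' K' (c * d)) < 1 := fun S h h' => by
        rw [e]
        refine Valuation.map_add_lt _ ?_ (Valuation.map_add_lt _ ?_ ?_) <;> rw [map_mul]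
        · exact mul_lt_one_of_lt_of_le h h'.le
        · exact mul_lt_one_of_lt_of_le h (S.2.1 d)
        · exact mul_lt_one_of_nonneg_of_lt_one_right (S.2.1 c) zero_le h'
      exact ⟨aux Q hc hd, aux Q' hc' hd'⟩
  obtain ⟨c, hc, hc'⟩ := key z hmem
  have h1 : c = 1 := sub_eq_zero.1 (const_unique Q (by
    rw [map_sub, map_one,
      show algebraMap k' K' c - 1 = (z - 1) - (z - algebraMap k' K' c) by ring]
    exact (Valuation.map_sub _ _ _).trans_lt (max_lt hzR hc)))
  have h2 : c = 0 := const_unique Q' (by
    rw [show algebraMap k' K' c = z - (z - algebraMap k' K' c) by ring]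
    exact (Valuation.map_sub _ _ _).trans_lt (max_lt hzR' hc'))
  exact one_ne_zero (h1.symm.trans h2)

/-- The ramification index is at most the inseparable degree. -/
theorem ramification_le [FiniteDimensional K K'] (hF : IsFF k K) (P : Place k K)
    (hns : integralClosure (P.O.toSubring.map (algebraMap K K')) K' =
      Algebra.adjoin (P.O.toSubring.map (algebraMap K K')) (Set.range (algebraMap k' K')))
    (Q : Place k' K') (e : ℕ) (he : ∀ z : K, Q.1 (algebraMap K K' z) = P.1 z ^ e)
    {σ : IsLocalRing.ResidueField P.O →ₐ[k] k'} (hσ : ∀ a : P.O,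
      Q.1 (algebraMap K K' a - algebraMap k' K' (σ (IsLocalRing.residue P.O a))) < 1) :
    e ≤ Module.finrank (separableClosure k (IsLocalRing.ResidueField P.O))
      (IsLocalRing.ResidueField P.O) := by
  classical
  haveI : @Module.Finite k (IsLocalRing.ResidueField P.O) _ _ Algebra.toModule :=
    Module.finite_of_finrank_pos (hF.deg_pos P)
  set Fs := separableClosure k (IsLocalRing.ResidueField P.O)
  let b := Module.finBasis Fs (IsLocalRing.ResidueField P.O)
  choose a ha using fun i => IsLocalRing.residue_surjective (R := P.O) (b i)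
  have hB : ∀ x, x ∈ Ball Q (-(e : ℤ)) ↔ Q.1 x ≤ exp (-(e : ℤ)) := fun x => Iff.rfl
  set W := Submodule.span k' (Set.range fun i => algebraMap K K' (a i)) ⊔ Ball Q (-(e : ℤ))
  have hW : ∀ x : P.O, algebraMap K K' x ∈ W := fun x => by
    choose u hu using fun i =>
      IsLocalRing.residue_surjective (R := P.O) ((b.repr (IsLocalRing.residue P.O x) i : Fs) : _)
    set d := x - ∑ i, u i * a i
    have hd : IsLocalRing.residue P.O d = 0 := by
      rw [map_sub, map_sum, sub_eq_zero]
      simp only [map_mul, hu, ha]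
      conv_lhs => rw [← b.sum_repr (IsLocalRing.residue P.O x)]
      rfl
    have hd' : algebraMap K K' (d : P.O) ∈ Ball Q (-(e : ℤ)) := by
      rw [hB, he]
      calc P.1 ((d : P.O) : K) ^ e ≤ exp (-1 : ℤ) ^ e :=
            pow_le_pow_left₀ zero_le (lt_one_iff_le_exp_neg_one.1 ((residue_eq_zero_iff P d).1 hd)) e
        _ = exp (-(e : ℤ)) := by rw [← WithZero.exp_nsmul]; simp
    have hx : algebraMap K K' x = algebraMap K K' (d : P.O) + ∑ i, algebraMap K K' (u i) * algebraMap K K' (a i) := by
      simp [d, map_sub, map_sum]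
    rw [hx]
    refine add_mem (Submodule.mem_sup_right hd') (sum_mem fun i _ => ?_)
    rw [show algebraMap K K' (u i : K) * algebraMap K K' (a i : K) =
      σ (IsLocalRing.residue P.O (u i)) • algebraMap K K' (a i : K) +
      (algebraMap K K' (u i) - algebraMap k' K' (σ (IsLocalRing.residue P.O (u i)))) *
        algebraMap K K' (a i) by rw [Algebra.smul_def]; ring]
    refine add_mem (Submodule.mem_sup_left (Submodule.smul_mem _ _ (Submodule.subset_span ⟨i, rfl⟩)))
      (Submodule.mem_sup_right ?_)
    rw [hB, map_mul, he (a i)]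
    refine (mul_le_mul' (sub_const_le P Q e he hσ (u i) ?_)
      (pow_le_one₀ zero_le (a i).2)).trans (mul_one _).le
    rw [hu i]
    exact mem_separableClosure_iff.1 (b.repr (IsLocalRing.residue P.O x) i).2
  have hO : ∀ z : K', Q.1 z ≤ 1 → z ∈ W := by
    intro z hz
    set R := (Different.placeUp k k').symm Q
    have hR : IsOver R P := ⟨e, he⟩
    obtain ⟨z', hz'⟩ := exists_val_sub_le (hF.above P) (fun S => if S = R then z else 0)
      fun _ => -(e : ℤ)
    have h1 : z - z' ∈ Ball Q (-(e : ℤ)) := by
      have := hz' R (hF.mem_above.2 hR)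
      rw [if_pos rfl, Valuation.map_sub_swap] at this
      exact this
    have hmem : z' ∈ integralClosure (P.O.toSubring.map (algebraMap K K')) K' := by
      refine (Tower.mem_integralClosure_image hF P z').2 fun S hS => ?_
      have := (hz' S (hF.mem_above.2 hS)).trans (exp_le_one.2 (by omega))
      by_cases hSR : S = R
      · rw [if_pos hSR] at this
        rw [show z' = (z' - z) + z by ring]
        exact Valuation.map_add_le _ this (hSR ▸ hz)
      · rwa [if_neg hSR, sub_zero] at this
    rw [hns] at hmem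
    set U := Submodule.span k' (Set.range fun x : P.O => algebraMap K K' x)
    have hU : U ≤ W := Submodule.span_le.2 (by rintro _ ⟨x, rfl⟩; exact hW x)
    have h1U : (1 : K') ∈ U := Submodule.subset_span ⟨1, by simp⟩
    have hUU : ∀ x ∈ U, ∀ y ∈ U, x * y ∈ U := fun x hx y hy => by
      induction hx using Submodule.span_induction with
      | mem x hx =>
        obtain ⟨x, rfl⟩ := hx
        induction hy using Submodule.span_induction with
        | mem y hy => obtain ⟨y, rfl⟩ := hy; exact Submodule.subset_span ⟨x * y, by simp⟩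
        | zero => rw [mul_zero]; exact zero_mem _
        | add _ _ _ _ h h' => rw [mul_add]; exact add_mem h h'
        | smul c _ _ h => rw [mul_smul_comm]; exact U.smul_mem c h
      | zero => rw [zero_mul]; exact zero_mem _
      | add _ _ _ _ h h' => rw [add_mul]; exact add_mem h h'
      | smul c _ _ h => rw [smul_mul_assoc]; exact U.smul_mem c h
    rw [← sub_add_cancel z z']
    refine add_mem (Submodule.mem_sup_right h1) (hU ?_)
    clear * - hmem h1U hUU
    induction hmem using Algebra.adjoin_induction with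
    | mem w hw =>
      obtain ⟨c, rfl⟩ := hw
      rw [Algebra.algebraMap_eq_smul_one]
      exact U.smul_mem c h1U
    | algebraMap t =>
      obtain ⟨x, hx, hxt⟩ := t.2
      exact Submodule.subset_span ⟨⟨x, hx⟩, hxt⟩
    | add _ _ _ _ h h' => exact add_mem h h'
    | mul _ _ _ _ h h' => exact hUU _ h _ h'
  -- powers of a parameter are independent modulo the ball
  obtain ⟨t, ht⟩ := exists_val_eq_exp Q (-1)
  let π := (Ball Q (-(e : ℤ))).mkQ
  let v : Fin e → K' ⧸ Ball Q (-(e : ℤ)) := fun j => π (t ^ (j : ℕ))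
  have hv : LinearIndependent k' v := by
    rw [Fintype.linearIndependent_iff]
    intro g hg
    by_contra! hne
    obtain ⟨j, hj, hmin⟩ := Finset.exists_min_image (Finset.univ.filter fun j => g j ≠ 0)
      (fun j : Fin e => (j : ℕ)) (by obtain ⟨j, hj⟩ := hne; exact ⟨j, by simpa using hj⟩)
    rw [Finset.mem_filter] at hj
    have hmem : ∑ i, g i • t ^ (i : ℕ) ∈ Ball Q (-(e : ℤ)) := by
      rw [← Submodule.Quotient.mk_eq_zero, ← Submodule.mkQ_apply, map_sum]
      simpa [v, π] using hg
    have hval : ∀ i, g i ≠ 0 → Q.1 (g i • t ^ (i : ℕ)) = exp (-((i : ℕ) : ℤ)) := fun i hi => by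
      have hc : Q.1 (algebraMap k' K' (g i)) = 1 :=
        (Q.2.1 _).antisymm (not_lt.1 fun hlt => hi (const_unique Q hlt))
      rw [Algebra.smul_def, map_mul, hc, one_mul, map_pow, ht, ← WithZero.exp_nsmul]
      simp
    rw [hB, Valuation.map_sum_eq_of_lt _ (Finset.mem_univ j) ?_, hval j hj.2, WithZero.exp_le_exp] at hmem
    · omega
    · intro i hi
      rw [hval j hj.2]
      rcases eq_or_ne (g i) 0 with h0 | h0
      · rw [h0, zero_smul, map_zero]; exact WithZero.exp_pos
      · rw [hval i h0, WithZero.exp_lt_exp]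
        have := hmin i (by simp [h0])
        have hij : (i : ℕ) ≠ (j : ℕ) := fun h => by simp [Fin.ext h] at hi
        omega
  have hle : Submodule.span k' (Set.range v) ≤ Submodule.span k' (Set.range fun i => π (algebraMap K K' (a i))) := by
    rw [Submodule.span_le]
    rintro _ ⟨j, rfl⟩
    obtain ⟨x, hx, y, hy, hxy⟩ := Submodule.mem_sup.1 (hO (t ^ (j : ℕ)) (by
      rw [map_pow, ht]; exact pow_le_one₀ zero_le (exp_le_one.2 (by norm_num))))
    have : v j = π x := by
      change π (t ^ (j : ℕ)) = π x
      rw [← hxy, map_add]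
      simp [π, (Submodule.Quotient.mk_eq_zero _).2 hy]
    rw [this, SetLike.mem_coe, show (Set.range fun i => π (algebraMap K K' (a i))) =
      π '' Set.range fun i => algebraMap K K' (a i) from (Set.range_comp π _), ← Submodule.map_span]
    exact Submodule.mem_map_of_mem hx
  haveI := Module.Finite.span_of_finite k' (Set.finite_range fun i => π (algebraMap K K' (a i)))
  have h := (Submodule.finrank_mono hle).trans (finrank_range_le_card (R := k') fun i => π (algebraMap K K' (a i)))
  rwa [finrank_span_eq_card hv, Fintype.card_fin, Fintype.card_fin] at h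

/-- The places over a nonsingular place in a splitting field. -/
theorem card_places_over (hF : IsFF k K)
    (h : Function.Bijective (Algebra.TensorProduct.productMap
      (IsScalarTower.toAlgHom k k' K') (IsScalarTower.toAlgHom k K K')))
    (P : Place k K)
    (hns : integralClosure (P.O.toSubring.map (algebraMap K K')) K' =
      Algebra.adjoin (P.O.toSubring.map (algebraMap K K')) (Set.range (algebraMap k' K')))
    (hsplit : ∀ Q : Place k' K', (∃ e : ℕ, ∀ z : K, Q.1 (algebraMap K K' z) = P.1 z ^ e) → Q.deg = 1) :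
    {Q : Place k' K' | ∃ e : ℕ, ∀ z : K, Q.1 (algebraMap K K' z) = P.1 z ^ e}.Finite ∧
      {Q : Place k' K' | ∃ e : ℕ, ∀ z : K, Q.1 (algebraMap K K' z) = P.1 z ^ e}.ncard =
        Field.finSepDegree k (IsLocalRing.ResidueField P.O) ∧
      ∀ Q : Place k' K', (∃ e : ℕ, ∀ z : K, Q.1 (algebraMap K K' z) = P.1 z ^ e) →
        ∀ z : K, Q.1 (algebraMap K K' z) =
          P.1 z ^ Module.finrank (separableClosure k (IsLocalRing.ResidueField P.O))
            (IsLocalRing.ResidueField P.O) := by
  classical
  haveI := finiteDimensional_of_tensor h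
  haveI : @Module.Finite k (IsLocalRing.ResidueField P.O) _ _ Algebra.toModule :=
    Module.finite_of_finrank_pos (hF.deg_pos P)
  set T := (hF.above (K' := K') P).map (Different.placeUp k k').toEmbedding with hT
  have hmemT : ∀ Q : Place k' K', Q ∈ T ↔ ∃ e : ℕ, ∀ z : K, Q.1 (algebraMap K K' z) = P.1 z ^ e :=
    fun Q => by
      rw [hT, Finset.mem_map_equiv, hF.mem_above]
      rfl
  have hset : {Q : Place k' K' | ∃ e : ℕ, ∀ z : K, Q.1 (algebraMap K K' z) = P.1 z ^ e} = T :=
    Set.ext fun Q => ((hmemT Q).symm.trans Finset.mem_coe.symm)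
  have hexe : ∀ Q : T, ∃ σ : IsLocalRing.ResidueField P.O →ₐ[k] k', ∀ a : P.O,
      (Q : Place k' K').1 (algebraMap K K' a -
        algebraMap k' K' (σ (IsLocalRing.residue P.O a))) < 1 := fun ⟨Q, hQ⟩ => by
    obtain ⟨e, he⟩ := (hmemT Q).1 hQ
    refine exists_emb P Q (fun a ha => ?_) (fun a ha => ?_) (hsplit Q ⟨e, he⟩)
    · rw [he]; exact pow_le_one₀ zero_le ha
    · exact (over_lt_one_iff (Q := (Different.placeUp k k').symm Q) ⟨e, he⟩ a).2 ha
  choose σ hσ using hexe
  set ι := IsScalarTower.toAlgHom k k' (AlgebraicClosure k')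
  have hinj : Function.Injective fun Q : T => ι.comp (σ Q) := fun Q Q' hQQ => by
    have hs : σ Q = σ Q' := AlgHom.ext fun r => ι.injective (AlgHom.congr_fun hQQ r)
    exact Subtype.ext (eq_of_emb_eq hF P hns _ _ ((hmemT _).1 Q.2) ((hmemT _).1 Q'.2) (σ Q) (hσ Q)
      (fun a => by rw [hs]; exact hσ Q' a))
  set q := Module.finrank (separableClosure k (IsLocalRing.ResidueField P.O)) (IsLocalRing.ResidueField P.O)
  set n := Field.finSepDegree k (IsLocalRing.ResidueField P.O)
  have hcard : T.card ≤ n := by
    have := Nat.card_le_card_of_injective _ hinj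
    rwa [Nat.card_eq_fintype_card, Fintype.card_coe,
      ← Field.finSepDegree_eq_of_isAlgClosed k (IsLocalRing.ResidueField P.O)] at this
  have hnq : n * q = P.deg := Field.finSepDegree_mul_finInsepDegree k (IsLocalRing.ResidueField P.O)
  let ρ : Place k' K' → ℕ := fun Q => ramIdx ((Different.placeUp k k').symm Q) P
  have hρ : ∀ Q ∈ T, IsOverWith ((Different.placeUp k k').symm Q) P (ρ Q) := fun Q hQ =>
    isOverWith_ramIdx ((hmemT Q).1 hQ)
  have hle : ∀ Q ∈ T, ρ Q ≤ q := fun Q hQ =>
    ramification_le hF P hns Q _ (hρ Q hQ) (hσ ⟨Q, hQ⟩)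
  have hsum : ∑ Q ∈ T, ρ Q = P.deg := by
    have h1 := hF.sum_ramIdx_deg (K' := K') P
    rw [finrank_of_tensor h] at h1
    have h2 : ∀ R ∈ (hF.above (K' := K') P), ramIdx R P * R.deg = Module.finrank k k' * ρ (Different.placeUp k k' R) := by
      intro R hR
      have h3 := Different.deg_placeUp (k := k) (Different.placeUp k k' R)
      rw [Equiv.symm_apply_apply] at h3
      rw [h3, hsplit (Different.placeUp k k' R) (hF.mem_above.1 hR), mul_one, mul_comm]
      simp [ρ]
    rw [Finset.sum_congr rfl h2, ← Finset.mul_sum] at h1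
    rw [hT, Finset.sum_map]
    exact Nat.eq_of_mul_eq_mul_left Module.finrank_pos h1
  have hle' : ∑ Q ∈ T, ρ Q ≤ T.card * q := by
    simpa using Finset.sum_le_sum hle
  have hq : 0 < q := Module.finrank_pos
  have hcardn : T.card = n :=
    le_antisymm hcard (Nat.le_of_mul_le_mul_right (hnq.trans_le (hsum ▸ hle')) hq)
  have heq : ∀ Q ∈ T, ρ Q = q := (Finset.sum_eq_sum_iff_of_le hle).1 (by
    rw [hsum, Finset.sum_const, smul_eq_mul, hcardn, hnq])
  rw [hset]
  refine ⟨T.finite_toSet, by rw [Set.ncard_coe_finset, hcardn], fun Q hQ z => ?_⟩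
  have := hρ Q ((hmemT Q).2 hQ) z
  rwa [heq Q ((hmemT Q).2 hQ)] at this

end Groth.Funfld2.Small.Count
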