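import Groth.Agent.Funfld2.Small.RR
import Groth.Agent.FunFld1.Rational
import Groth.Agent.FunFld1.Extension
import Mathlib.FieldTheory.RatFunc.AsPolynomial
import Mathlib.FieldTheory.IntermediateField.Adjoin.Basic
import Mathlib.RingTheory.RootsOfUnity.AlgebraicallyClosed

/-! Automorphisms of an elliptic function field fixing the base point. -/

open FunFld Groth.FunFld1
open WithZero (exp)
open scoped WithZero

set_option linter.unusedSectionVars false

namespace Groth.Funfld2.Small.EllAut

variable {k K : Type*} [Field k] [Field K] [Algebra k K] [IsAlgClosed k]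
  (hK : IsFunctionField k K) (hgen : genus k K = 1) {P : Place k K} {a b : k} {x y : K}
  (heq : y ^ 2 = x ^ 3 + algebraMap k K a * x + algebraMap k K b)
  (hxy : IntermediateField.adjoin k ({x, y} : Set K) = ⊤)
  (hx : x ∈ L (Finsupp.single P 2)) (hx2 : P.ord x = -2)
  (hy : y ∈ L (Finsupp.single P 3)) (hy3 : P.ord y = -3)

include hx2 in
theorem x_ne_zero : x ≠ 0 := fun h => by rw [h, ord_zero] at hx2; omega

include hy3 in
theorem y_ne_zero : y ≠ 0 := fun h => by rw [h, ord_zero] at hy3; omega

include hx2 in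
theorem val_x : P.1 x = exp (2 : ℤ) := by
  rw [val_eq_exp_neg_ord P (x_ne_zero hx2), hx2]; rfl

include hy3 in
theorem val_y : P.1 y = exp (3 : ℤ) := by
  rw [val_eq_exp_neg_ord P (y_ne_zero hy3), hy3]; rfl

include hx2 in
theorem transcendental_x : Transcendental k x := by
  refine transcendental_of_one_lt_val P ?_
  rw [val_x hx2, ← WithZero.exp_zero, WithZero.exp_lt_exp]; norm_num

include hx in
theorem pole_only {Q : Place k K} (h : 1 < Q.1 x) : Q = P := by
  by_contra hne
  have := hx Q
  rw [Finsupp.single_eq_of_ne hne, WithZero.exp_zero] at this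
  exact not_le.2 h this

include hK hx hx2 in
theorem finrank_x : Module.finrank (IntermediateField.adjoin k ({x} : Set K)) K = 2 := by
  classical
  have hF := IsFF.of_isFunctionField hK
  have h0 := hF.deg_poleDiv_eq (transcendental_x hx2)
  have h1 : zeroDiv k x⁻¹ = Finsupp.single P 2 := by
    ext Q
    rw [hF.zeroDiv_apply, ord_inv]
    rcases eq_or_ne Q P with rfl | hne
    · rw [Finsupp.single_eq_same, hx2]; norm_num
    · rw [Finsupp.single_eq_of_ne hne]
      refine max_eq_right ?_
      have := (val_le_one_iff Q x).1 (not_lt.1 fun h => hne (pole_only hx h))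
      omega
  rw [h1, deg_single, deg_eq_one_of_isAlgClosed hF] at h0
  omega

include hK hx hx2 hxy in
theorem y_not_mem : y ∉ IntermediateField.adjoin k ({x} : Set K) := by
  intro h
  have h1 : IntermediateField.adjoin k ({x, y} : Set K) ≤ IntermediateField.adjoin k ({x} : Set K) :=
    IntermediateField.adjoin_le_iff.2 (by
      intro z hz
      rcases hz with rfl | hz
      · exact IntermediateField.mem_adjoin_simple_self k z
      · rw [Set.mem_singleton_iff] at hz; subst hz; exact h)
  rw [hxy] at h1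
  have h2 := finrank_x hK hx hx2
  rw [top_le_iff.1 h1, IntermediateField.finrank_top] at h2
  omega

include hx2 hy3 in
/-- Independence of `1, x, y, x², xy, x³`. -/
theorem coeff_eq_zero (c : Fin 6 → k)
    (h : algebraMap k K (c 0) + algebraMap k K (c 1) * x + algebraMap k K (c 2) * y +
      algebraMap k K (c 3) * x ^ 2 + algebraMap k K (c 4) * (x * y) +
      algebraMap k K (c 5) * x ^ 3 = 0) : ∀ i, c i = 0 := by
  classical
  let d : Fin 6 → ℕ := ![0, 2, 3, 4, 5, 6]
  let w : Fin 6 → K := ![1, x, y, x ^ 2, x * y, x ^ 3]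
  have hwP : ∀ i, P.1 (w i) = exp (d i : ℤ) := by
    intro i
    fin_cases i <;> simp [w, d, val_x hx2, val_y hy3, ← WithZero.exp_nsmul, ← WithZero.exp_add]
  have hsum : ∑ i, algebraMap k K (c i) * w i = 0 := by
    simp only [Fin.sum_univ_six, w]
    simpa using h
  intro i
  by_contra hi
  obtain ⟨j, hj, hjmax⟩ := (Finset.univ.filter fun i => c i ≠ 0).exists_max_image d ⟨i, by simp [hi]⟩
  simp only [Finset.mem_filter, Finset.mem_univ, true_and] at hj hjmax
  have hinj : Function.Injective d := by decide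
  have hterm : P.1 (algebraMap k K (c j) * w j) = exp (d j : ℤ) := by
    rw [map_mul, val_algebraMap P hj, hwP, one_mul]
  have := Valuation.map_sum_eq_of_lt (v := P.1) (f := fun i => algebraMap k K (c i) * w i)
    (Finset.mem_univ j) fun l hl => by
      simp only [Finset.mem_sdiff, Finset.mem_singleton] at hl
      by_cases hcl : c l = 0
      · rw [hterm, hcl, map_zero, zero_mul, map_zero]; exact WithZero.exp_pos
      · rw [hterm, map_mul, val_algebraMap P hcl, hwP, one_mul, WithZero.exp_lt_exp]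
        have h1 := hjmax l hcl
        have h2 : d l ≠ d j := fun e => hl.2 (hinj e)
        omega
  rw [hsum, map_zero, hterm] at this
  exact WithZero.exp_ne_zero this.symm

include hK hgen hx2 hx in
theorem mem_L2 {z : K} (hz : z ∈ L (Finsupp.single P 2)) :
    ∃ α r : k, z = algebraMap k K α * x + algebraMap k K r := by
  classical
  have hF := IsFF.of_isFunctionField hK
  have hdeg := deg_eq_one_of_isAlgClosed hF P
  have h1 : (ell (Finsupp.single P (2 : ℤ)) : ℤ) = 2 := by
    rw [ell_eq_of_deg_ge hK (by rw [hgen, deg_single, hdeg]; norm_num), hgen, deg_single, hdeg]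
    norm_num
  let w : Fin 2 → L (Finsupp.single P (2 : ℤ)) :=
    ![⟨x, hx⟩, ⟨1, fun Q => by
      rw [map_one, ← WithZero.exp_zero, WithZero.exp_le_exp]
      exact Finsupp.single_nonneg.2 (by norm_num) Q⟩]
  have hli : LinearIndependent k w := by
    refine LinearIndependent.pair_iff.2 fun s t hst => ?_
    have h2 := congrArg (fun u : L (Finsupp.single P (2 : ℤ)) => (u : K)) hst
    simp only [Submodule.coe_add, Submodule.coe_smul, ZeroMemClass.coe_zero, Algebra.smul_def,
      mul_one] at h2
    by_cases hs : s = 0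
    · subst hs
      rw [map_zero, zero_mul, zero_add] at h2
      exact ⟨rfl, (map_eq_zero _).1 h2⟩
    · exfalso
      refine transcendental_x hx2 ?_
      have hx' : x = algebraMap k K (-t / s) := by
        rw [map_div₀, map_neg, eq_div_iff (by simpa using hs)]
        linear_combination h2
      rw [hx']
      exact isAlgebraic_algebraMap _
  have := hF.finiteDimensional_L (Finsupp.single P (2 : ℤ))
  have hspan := hli.span_eq_top_of_card_eq_finrank' (by
    rw [Fintype.card_fin]
    change 2 = ell _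
    omega)
  obtain ⟨c, hc⟩ := (Submodule.mem_span_range_iff_exists_fun k).1
    (hspan ▸ Submodule.mem_top : (⟨z, hz⟩ : L (Finsupp.single P (2 : ℤ))) ∈
      Submodule.span k (Set.range w))
  refine ⟨c 0, c 1, ?_⟩
  have h2 := congrArg (fun u : L (Finsupp.single P (2 : ℤ)) => (u : K)) hc
  simp only [Fin.sum_univ_two, w, Matrix.cons_val_zero, Matrix.cons_val_one, Submodule.coe_add,
    Submodule.coe_smul, Algebra.smul_def, mul_one] at h2
  exact h2.symm

include hK hgen hx2 hy3 hx hy in
theorem mem_L3 {z : K} (hz : z ∈ L (Finsupp.single P 3)) :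
    ∃ β s t : k, z = algebraMap k K β * y + algebraMap k K s * x + algebraMap k K t := by
  classical
  have hF := IsFF.of_isFunctionField hK
  have hdeg := deg_eq_one_of_isAlgClosed hF P
  have h1 : (ell (Finsupp.single P (3 : ℤ)) : ℤ) = 3 := by
    rw [ell_eq_of_deg_ge hK (by rw [hgen, deg_single, hdeg]; norm_num), hgen, deg_single, hdeg]
    norm_num
  let w : Fin 3 → L (Finsupp.single P (3 : ℤ)) :=
    ![⟨y, hy⟩, ⟨x, L_mono (Finsupp.single_le_single.2 (by norm_num)) hx⟩, ⟨1, fun Q => by
      rw [map_one, ← WithZero.exp_zero, WithZero.exp_le_exp]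
      exact Finsupp.single_nonneg.2 (by norm_num) Q⟩]
  have hli : LinearIndependent k w := by
    rw [Fintype.linearIndependent_iff]
    intro c hc
    have h2 := congrArg (fun u : L (Finsupp.single P (3 : ℤ)) => (u : K)) hc
    simp only [Fin.sum_univ_three, w, Matrix.cons_val_zero, Matrix.cons_val_one, Matrix.cons_val_two,
      Matrix.tail_cons, Matrix.head_cons, Submodule.coe_add, Submodule.coe_smul, Algebra.smul_def,
      mul_one, ZeroMemClass.coe_zero] at h2
    have h3 := coeff_eq_zero hx2 hy3 ![c 2, c 1, c 0, 0, 0, 0] (by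
      simp
      linear_combination h2)
    intro i
    fin_cases i
    exacts [by simpa using h3 2, by simpa using h3 1, by simpa using h3 0]
  have := hF.finiteDimensional_L (Finsupp.single P (3 : ℤ))
  have hspan := hli.span_eq_top_of_card_eq_finrank' (by
    rw [Fintype.card_fin]
    change 3 = ell _
    omega)
  obtain ⟨c, hc⟩ := (Submodule.mem_span_range_iff_exists_fun k).1
    (hspan ▸ Submodule.mem_top : (⟨z, hz⟩ : L (Finsupp.single P (3 : ℤ))) ∈
      Submodule.span k (Set.range w))
  refine ⟨c 0, c 1, c 2, ?_⟩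
  have h2 := congrArg (fun u : L (Finsupp.single P (3 : ℤ)) => (u : K)) hc
  simp only [Fin.sum_univ_three, w, Matrix.cons_val_zero, Matrix.cons_val_one, Matrix.cons_val_two,
    Matrix.tail_cons, Matrix.head_cons, Submodule.coe_add, Submodule.coe_smul, Algebra.smul_def,
    mul_one] at h2
  exact h2.symm

omit [IsAlgClosed k] in
theorem apply_mem_L {σ : K ≃ₐ[k] K} (hσ : ∀ z : K, P.1 (σ z) = P.1 z) {n : ℤ} {z : K}
    (hz : z ∈ L (Finsupp.single P n)) : σ z ∈ L (Finsupp.single P n) := by
  classical
  intro Q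
  rcases eq_or_ne Q P with rfl | hne
  · rw [hσ]; exact hz Q
  · rw [Finsupp.single_eq_of_ne hne]
    have hne' : comapPlace σ Q ≠ P := fun e => hne (Subtype.ext (Valuation.ext fun w => by
      have h := congrArg (fun R : Place k K => R.1 (σ.symm w)) e
      simp only [comapPlace_apply, AlgEquiv.apply_symm_apply] at h
      rw [h, ← hσ (σ.symm w), AlgEquiv.apply_symm_apply]))
    have := hz (comapPlace σ Q)
    rwa [comapPlace_apply, Finsupp.single_eq_of_ne hne'] at this

include hK hgen heq hx hx2 hy hy3 in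
/-- Every such automorphism is `x ↦ u²x`, `y ↦ u³y`. -/
theorem exists_scalar (h2 : (2 : k) ≠ 0) (h3 : (3 : k) ≠ 0) (σ : K ≃ₐ[k] K)
    (hσ : ∀ z : K, P.1 (σ z) = P.1 z) :
    ∃ u : k, u ≠ 0 ∧ a * u ^ 4 = a ∧ b * u ^ 6 = b ∧
      σ x = algebraMap k K (u ^ 2) * x ∧ σ y = algebraMap k K (u ^ 3) * y := by
  classical
  obtain ⟨α, r, hσx⟩ := mem_L2 hK hgen hx hx2 (apply_mem_L hσ hx)
  obtain ⟨β, s, t, hσy⟩ := mem_L3 hK hgen hx hx2 hy hy3 (apply_mem_L hσ hy)
  have hα : α ≠ 0 := by
    intro h0
    have h1 := hσ x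
    rw [hσx, h0, map_zero, zero_mul, zero_add, val_x hx2] at h1
    have := (P.2.1 r).trans_lt' (h1 ▸ (by rw [← WithZero.exp_zero, WithZero.exp_lt_exp]; norm_num :
      (1 : ℤᵐ⁰) < exp (2 : ℤ)))
    exact lt_irrefl _ this
  have hσeq := congrArg σ heq
  simp only [map_pow, map_add, map_mul, AlgEquiv.commutes, hσx, hσy] at hσeq
  have hc := coeff_eq_zero hx2 hy3
    ![β ^ 2 * b + t ^ 2 - r ^ 3 - a * r - b,
      β ^ 2 * a + 2 * s * t - 3 * α * r ^ 2 - a * α,
      2 * β * t,
      s ^ 2 - 3 * α ^ 2 * r,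
      2 * β * s,
      β ^ 2 - α ^ 3] (by
      simp only [Matrix.cons_val_zero, Matrix.cons_val_one, Matrix.cons_val, map_sub, map_add,
        map_mul, map_pow, map_ofNat]
      linear_combination hσeq - (algebraMap k K β) ^ 2 * heq)
  have e5 : β ^ 2 = α ^ 3 := sub_eq_zero.1 (by simpa using hc 5)
  have hβ : β ≠ 0 := fun h => hα (by
    rw [h, zero_pow two_ne_zero] at e5; exact eq_zero_of_pow_eq_zero e5.symm)
  have hs : s = 0 := by simpa [h2, hβ] using hc 4
  have ht : t = 0 := by simpa [h2, hβ] using hc 2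
  have hr : r = 0 := by simpa [hs, h3, hα] using hc 3
  have e0 : β ^ 2 * b + t ^ 2 - r ^ 3 - a * r - b = 0 := by simpa using hc 0
  have e1 : β ^ 2 * a + 2 * s * t - 3 * α * r ^ 2 - a * α = 0 := by simpa using hc 1
  subst hs ht hr
  have hu2 : (β / α) ^ 2 = α := by
    rw [div_pow, div_eq_iff (pow_ne_zero _ hα)]
    linear_combination e5
  have hu3 : (β / α) ^ 3 = β := by
    rw [pow_succ, hu2, mul_div_cancel₀ _ hα]
  refine ⟨β / α, div_ne_zero hβ hα, ?_, ?_, ?_, ?_⟩
  · rw [show (4 : ℕ) = 2 * 2 from rfl, pow_mul, hu2]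
    have : a * α ^ 2 * α = a * α := by
      linear_combination e1 - a * e5
    exact mul_right_cancel₀ hα this
  · rw [show (6 : ℕ) = 3 * 2 from rfl, pow_mul, hu3]
    linear_combination e0
  · rw [hσx, hu2, map_zero, add_zero]
  · rw [hσy, hu3, map_zero, zero_mul, add_zero, add_zero]

include hK heq hxy hx hx2 in
/-- Scalars give automorphisms. -/
theorem exists_aut {u : k} (hu : u ≠ 0) (ha : a * u ^ 4 = a) (hb : b * u ^ 6 = b) :
    ∃ σ : K ≃ₐ[k] K, (∀ z : K, P.1 (σ z) = P.1 z) ∧
      σ x = algebraMap k K (u ^ 2) * x ∧ σ y = algebraMap k K (u ^ 3) * y := by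
  classical
  set x' := algebraMap k K (u ^ 2) * x with hx'def
  have htr := transcendental_x (k := k) hx2
  have hu2 : algebraMap k K (u ^ 2) ≠ 0 := by simpa using hu
  have hv' : P.1 x' = exp (2 : ℤ) := by
    rw [hx'def, map_mul, val_algebraMap P (pow_ne_zero _ hu), one_mul, val_x hx2]
  have htr' : Transcendental k x' := transcendental_of_one_lt_val P (by
    rw [hv', ← WithZero.exp_zero, WithZero.exp_lt_exp]; norm_num)
  set F := IntermediateField.adjoin k ({x} : Set K)
  let e : RatFunc k ≃ₐ[k] F := RatFunc.algEquivOfTranscendental x htr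
  let e' : RatFunc k ≃ₐ[k] IntermediateField.adjoin k ({x'} : Set K) :=
    RatFunc.algEquivOfTranscendental x' htr'
  let i : F →ₐ[k] K := (IntermediateField.val _).comp (e'.toAlgHom.comp e.symm.toAlgHom)
  have hgen : e RatFunc.X = IntermediateField.AdjoinSimple.gen k x := by
    rw [← RatFunc.algEquivOfTranscendental_symm_gen x htr, AlgEquiv.apply_symm_apply]
  have hi : i (IntermediateField.AdjoinSimple.gen k x) = x' := by
    rw [← hgen]
    change ((e' (e.symm (e RatFunc.X)) : IntermediateField.adjoin k ({x'} : Set K)) : K) = x'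
    rw [AlgEquiv.symm_apply_apply]
    simp [e']
  have := Module.finite_of_finrank_eq_succ (finrank_x hK hx hx2)
  set f : F := (IntermediateField.AdjoinSimple.gen k x) ^ 3 +
    algebraMap k F a * IntermediateField.AdjoinSimple.gen k x + algebraMap k F b with hf
  have hfy : y ^ 2 = algebraMap F K f := by
    rw [hf, map_add, map_add, map_mul, map_pow, IntermediateField.AdjoinSimple.algebraMap_gen,
      ← IsScalarTower.algebraMap_apply, ← IsScalarTower.algebraMap_apply]
    exact heq
  have hint : IsIntegral F y := IsIntegral.of_finite F y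
  have hmin : minpoly F y = Polynomial.X ^ 2 - Polynomial.C f := by
    refine (Polynomial.eq_of_monic_of_dvd_of_natDegree_le (minpoly.monic hint)
      (Polynomial.monic_X_pow_sub_C _ two_ne_zero) (minpoly.dvd _ _ (by simp [hfy])) ?_).symm
    rw [Polynomial.natDegree_X_pow_sub_C]
    exact (minpoly.two_le_natDegree_iff hint).2 fun ⟨z, hz⟩ =>
      y_not_mem hK hxy hx hx2 (hz ▸ z.2)
  have htop : IntermediateField.adjoin F ({y} : Set K) = ⊤ := by
    refine IntermediateField.restrictScalars_injective k ?_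
    rw [IntermediateField.restrictScalars_top, IntermediateField.adjoin_simple_adjoin_simple]
    exact hxy
  let E : AdjoinRoot (minpoly F y) ≃ₐ[F] K :=
    (IntermediateField.adjoinRootEquivAdjoin F hint).trans
      ((IntermediateField.equivOfEq htop).trans IntermediateField.topEquiv)
  let g : AdjoinRoot (minpoly F y) →+* K :=
    AdjoinRoot.lift i.toRingHom (algebraMap k K (u ^ 3) * y) (by
      rw [hmin, Polynomial.eval₂_sub, Polynomial.eval₂_X_pow, Polynomial.eval₂_C, mul_pow, hfy,
        sub_eq_zero]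
      change _ = i f
      rw [← hfy, heq, hf, map_add, map_add, map_mul, map_pow i, hi, AlgHom.commutes,
        AlgHom.commutes, hx'def]
      have ha' := congrArg (algebraMap k K) ha
      have hb' := congrArg (algebraMap k K) hb
      simp only [map_mul, map_pow] at ha' hb'
      simp only [map_pow]
      linear_combination (algebraMap k K u ^ 2 * x) * ha' + hb')
  let σ₀ : K →ₐ[k] K :=
    { toRingHom := g.comp E.symm.toRingEquiv.toRingHom
      commutes' := fun c => by
        change g (E.symm (algebraMap k K c)) = _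
        rw [IsScalarTower.algebraMap_apply k F K, AlgEquiv.commutes]
        change g (AdjoinRoot.of _ (algebraMap k F c)) = _
        rw [AdjoinRoot.lift_of]
        exact i.commutes c }
  have hσx : σ₀ x = x' := by
    change g (E.symm x) = _
    have h1 : x = algebraMap F K (IntermediateField.AdjoinSimple.gen k x) := rfl
    conv_lhs => rw [h1, AlgEquiv.commutes]
    change g (AdjoinRoot.of _ _) = _
    rw [AdjoinRoot.lift_of]
    exact hi
  have hσy : σ₀ y = algebraMap k K (u ^ 3) * y := by
    change g (E.symm y) = _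
    have h1 : E.symm y = AdjoinRoot.root _ := by
      rw [AlgEquiv.symm_apply_eq]
      simp [E, IntermediateField.adjoinRootEquivAdjoin_apply_root]
    rw [h1, AdjoinRoot.lift_root]
  have hsurj : Function.Surjective σ₀ := by
    rw [← AlgHom.fieldRange_eq_top, ← top_le_iff, ← hxy]
    refine IntermediateField.adjoin_le_iff.2 ?_
    intro z hz
    have hu3 : algebraMap k K (u ^ 3) ≠ 0 := by simpa using hu
    rcases hz with rfl | hz
    · refine ⟨algebraMap k K (u ^ 2)⁻¹ * z, ?_⟩
      change σ₀ (algebraMap k K (u ^ 2)⁻¹ * z) = z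
      rw [map_mul, AlgHom.commutes, hσx, hx'def, map_inv₀, ← mul_assoc, inv_mul_cancel₀ hu2, one_mul]
    · rw [Set.mem_singleton_iff] at hz
      subst hz
      refine ⟨algebraMap k K (u ^ 3)⁻¹ * z, ?_⟩
      change σ₀ (algebraMap k K (u ^ 3)⁻¹ * z) = z
      rw [map_mul, AlgHom.commutes, hσy, map_inv₀, ← mul_assoc, inv_mul_cancel₀ hu3, one_mul]
  refine ⟨AlgEquiv.ofBijective σ₀ ⟨σ₀.toRingHom.injective, hsurj⟩, fun z => ?_, hσx, hσy⟩
  set σ := AlgEquiv.ofBijective σ₀ ⟨σ₀.toRingHom.injective, hsurj⟩ with hσ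
  have hP : comapPlace σ P = P := by
    refine pole_only hx ?_
    rw [comapPlace_apply, show σ x = x' from hσx, hv', ← WithZero.exp_zero, WithZero.exp_lt_exp]
    norm_num
  rw [← comapPlace_apply, hP]

include hK hgen heq hxy hx hx2 hy hy3 in
theorem card_aut [DecidableEq k] (h2 : (2 : k) ≠ 0) (h3 : (3 : k) ≠ 0)
    (hdisc : 4 * a ^ 3 + 27 * b ^ 2 ≠ 0) :
    Nat.card {σ : K ≃ₐ[k] K // ∀ z : K, P.1 (σ z) = P.1 z} =
      if a = 0 then 6 else if b = 0 then 4 else 2 := by
  classical
  let G := {u : k // u ≠ 0 ∧ a * u ^ 4 = a ∧ b * u ^ 6 = b}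
  choose uf hu ha hb hux huy using fun σ : {σ : K ≃ₐ[k] K // ∀ z : K, P.1 (σ z) = P.1 z} =>
    exists_scalar hK hgen heq hx hx2 hy hy3 h2 h3 σ.1 σ.2
  let F : {σ : K ≃ₐ[k] K // ∀ z : K, P.1 (σ z) = P.1 z} → G := fun σ =>
    ⟨uf σ, hu σ, ha σ, hb σ⟩
  have hbij : Function.Bijective F := by
    constructor
    · intro σ τ h
      have he : uf σ = uf τ := congrArg Subtype.val h
      suffices hh : (σ.1 : K →ₐ[k] K) = (τ.1 : K →ₐ[k] K) from
        Subtype.ext (AlgEquiv.ext fun z => DFunLike.congr_fun hh z)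
      refine AlgHom.ext fun w => ?_
      have hw : w ∈ IntermediateField.adjoin k ({x, y} : Set K) := hxy ▸ IntermediateField.mem_top
      induction hw using IntermediateField.adjoin_induction with
      | algebraMap c => simp
      | add _ _ _ _ h1 h2 => rw [map_add, map_add, h1, h2]
      | inv _ _ h1 => rw [map_inv₀, map_inv₀, h1]
      | mul _ _ _ _ h1 h2 => rw [map_mul, map_mul, h1, h2]
      | mem z hz =>
        rcases hz with rfl | hz
        · change σ.1 z = τ.1 z
          rw [hux, hux, he]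
        · rw [Set.mem_singleton_iff] at hz
          subst hz
          change σ.1 z = τ.1 z
          rw [huy, huy, he]
    · rintro ⟨u, hu0, hua, hub⟩
      obtain ⟨σ, hσ, hσx, hσy⟩ := exists_aut hK heq hxy hx hx2 hu0 hua hub
      refine ⟨⟨σ, hσ⟩, Subtype.ext ?_⟩
      have hx0 := x_ne_zero hx2
      have hy0 := y_ne_zero hy3
      have e2 := (hux ⟨σ, hσ⟩).symm.trans hσx
      have e3 := (huy ⟨σ, hσ⟩).symm.trans hσy
      have e2' := (algebraMap k K).injective (mul_right_cancel₀ hx0 e2)
      have e3' := (algebraMap k K).injective (mul_right_cancel₀ hy0 e3)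
      change uf ⟨σ, hσ⟩ = u
      have : uf ⟨σ, hσ⟩ * u ^ 2 = u * u ^ 2 := by
        conv_lhs => rw [← e2']
        linear_combination e3'
      exact mul_right_cancel₀ (pow_ne_zero _ hu0) this
  rw [Nat.card_congr (Equiv.ofBijective F hbij)]
  have key : ∀ n : ℕ, 0 < n → (n : k) ≠ 0 →
      (∀ u : k, (u ≠ 0 ∧ a * u ^ 4 = a ∧ b * u ^ 6 = b) ↔ u ^ n = 1) → Nat.card G = n := by
    intro n hn hnk hiff
    have : NeZero (n : k) := ⟨hnk⟩
    obtain ⟨ζ, hζ⟩ := HasEnoughRootsOfUnity.exists_primitiveRoot k n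
    rw [← hζ.card_nthRootsFinset]
    refine Nat.subtype_card _ fun u => ?_
    rw [Polynomial.mem_nthRootsFinset hn, hiff]
  have h6 : (6 : k) ≠ 0 := by
    rw [show (6 : k) = 2 * 3 by norm_num]; exact mul_ne_zero h2 h3
  have h4 : (4 : k) ≠ 0 := by
    rw [show (4 : k) = 2 * 2 by norm_num]; exact mul_ne_zero h2 h2
  split_ifs with ha0 hb0
  · have hb0 : b ≠ 0 := fun hb0 => hdisc (by rw [ha0, hb0]; ring)
    refine key 6 (by norm_num) (by exact_mod_cast h6) fun u => ?_
    simp only [ha0, zero_mul, true_and, mul_eq_left₀ hb0]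
    exact ⟨fun h => h.2, fun h => ⟨fun h0 => by rw [h0, zero_pow (by norm_num)] at h; exact zero_ne_one h, h⟩⟩
  · refine key 4 (by norm_num) (by exact_mod_cast h4) fun u => ?_
    simp only [hb0, zero_mul, and_true, mul_eq_left₀ ha0]
    exact ⟨fun h => h.2, fun h => ⟨fun h0 => by rw [h0, zero_pow (by norm_num)] at h; exact zero_ne_one h, h⟩⟩
  · refine key 2 (by norm_num) (by exact_mod_cast h2) fun u => ?_
    simp only [mul_eq_left₀ ha0, mul_eq_left₀ hb0]
    refine ⟨fun ⟨_, h4', h6'⟩ => ?_, fun h => ⟨fun h0 => by rw [h0, zero_pow (by norm_num)] at h; exact zero_ne_one h, ?_, ?_⟩⟩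
    · linear_combination h6' - u ^ 2 * h4'
    · rw [show (4 : ℕ) = 2 * 2 from rfl, pow_mul, h, one_pow]
    · rw [show (6 : ℕ) = 2 * 3 from rfl, pow_mul, h, one_pow]

end Groth.Funfld2.Small.EllAut
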