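import Groth.Agent.Funfld2.Small.Tower
import Groth.Agent.Funfld2.Residue.Geometric
import Mathlib.FieldTheory.PrimitiveElement
import Mathlib.RingTheory.DedekindDomain.Different
import Mathlib.FieldTheory.IntermediateField.Adjoin.Algebra
import Mathlib.RingTheory.Polynomial.UniqueFactorization

/-! Places at which every constant field extension is nonsingular. -/

open FunFld Groth.FunFld1 Polynomial
open WithZero (exp)
open scoped TensorProduct Pointwise IntermediateField.algebraAdjoinAdjoin

set_option linter.unusedSectionVars false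
set_option linter.style.haveILetI false

namespace Groth.Funfld2.Small.Good

universe u

/-- Elements without affine poles are integral over `k[x]`. -/
theorem isIntegral_of_affine {k K : Type*} [Field k] [Field K] [Algebra k K] (hF : IsFF k K) {x z : K}
    (h : ∀ Q : Place k K, Q.1 x ≤ 1 → Q.1 z ≤ 1) :
    IsIntegral (Algebra.adjoin k ({x} : Set K)) z := by
  set A := Algebra.adjoin k ({x} : Set K)
  by_contra hz
  haveI : IsIntegrallyClosedIn (integralClosure A K).toSubring K := by
    refine Subring.isIntegrallyClosedIn_iff.mpr fun {w} hw => ?_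
    exact isIntegral_trans (A := integralClosure A K) w hw
  obtain ⟨V, hV, hzV⟩ :=
    Subring.exists_le_valuationSubring_of_isIntegrallyClosedIn (R := (integralClosure A K).toSubring) hz
  have hA : ∀ a ∈ A, a ∈ V := fun a ha => hV (Subalgebra.algebraMap_mem (integralClosure A K) (⟨a, ha⟩ : A))
  obtain ⟨Q, hQ⟩ := hF.exists_place_O_eq V (fun c => hA _ (Subalgebra.algebraMap_mem A c))
    (fun htop => hzV (htop ▸ ValuationSubring.mem_top _))
  have hx : x ∈ Q.O := hQ ▸ hA x (Algebra.self_mem_adjoin_singleton k x)
  exact hzV (hQ ▸ (h Q hx : z ∈ Q.O))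

/-- The trace dual bound: the derivative multiplies the integral closure into `A[y]`. -/
theorem derivative_mul_mem {A L M : Type*} [CommRing A] [IsDomain A] [IsIntegrallyClosed A] [Field L]
    [Field M] [Algebra A L] [IsFractionRing A L] [Algebra L M] [Algebra A M] [IsScalarTower A L M]
    [FiniteDimensional L M] {y : M} (hy : IsIntegral A y)
    (htop : IntermediateField.adjoin L ({y} : Set M) = ⊤) {f : A[X]} (hf : aeval y f = 0)
    (hd : aeval y (derivative f) ≠ 0) {z : M} (hz : IsIntegral A z) :
    aeval y (derivative f) * z ∈ Algebra.adjoin A ({y} : Set M) := by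
  haveI : FaithfulSMul A M := by
    rw [faithfulSMul_iff_algebraMap_injective, IsScalarTower.algebraMap_eq A L M]
    exact (algebraMap L M).injective.comp (IsFractionRing.injective A L)
  obtain ⟨h, hh⟩ := minpoly.isIntegrallyClosed_dvd hy hf
  have hder : aeval y (derivative f) = aeval y (derivative (minpoly A y)) * aeval y h := by
    rw [hh, derivative_mul]
    simp [minpoly.aeval]
  have hmin : minpoly L y = (minpoly A y).map (algebraMap A L) :=
    minpoly.isIntegrallyClosed_eq_field_fractions' L hy
  have hyL : IsIntegral L y := hy.tower_top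
  have hd' : aeval y (derivative (minpoly L y)) ≠ 0 := fun h0 => by
    rw [hmin, derivative_map, aeval_map_algebraMap] at h0
    exact hd (by rw [hder, h0, zero_mul])
  haveI : Algebra.IsSeparable L M := by
    have hsep : IsSeparable L y :=
      (Polynomial.separable_iff_derivative_ne_zero (minpoly.irreducible hyL)).2 fun h0 => hd' (by rw [h0, map_zero])
    have := (IntermediateField.isSeparable_adjoin_simple_iff_isSeparable (F := L) (E := M)).2 hsep
    rw [htop] at this
    exact Algebra.IsSeparable.of_algHom L _ (IntermediateField.topEquiv.symm.toAlgHom : M →ₐ[L] _)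
  have hx' : Algebra.adjoin L ({y} : Set M) = ⊤ := by
    rw [← IntermediateField.adjoin_simple_toSubalgebra_of_isAlgebraic hyL.isAlgebraic, htop,
      IntermediateField.top_toSubalgebra]
  have key : aeval y (derivative (minpoly L y)) * z ∈ Algebra.adjoin A ({y} : Set M) := by
    have h1 := SetLike.ext_iff.1 (traceForm_dualSubmodule_adjoin A L hx' hy) z
    rw [LinearMap.BilinForm.mem_dualSubmodule,
      Submodule.mem_smul_iff_inv_mul_mem (inv_ne_zero hd'), inv_inv] at h1
    refine h1.1 fun w hw => ?_
    rw [Algebra.traceForm_apply, Submodule.one_eq_range, LinearMap.mem_range]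
    have hwi : IsIntegral A w :=
      Algebra.adjoin_le (Set.singleton_subset_iff.2 (show y ∈ integralClosure A M from hy)) hw
    obtain ⟨c, hc⟩ := IsIntegrallyClosed.isIntegral_iff.1 (Algebra.isIntegral_trace (L := L) (hz.mul hwi))
    exact ⟨c, hc⟩
  rw [hder, mul_right_comm]
  rw [hmin, derivative_map, aeval_map_algebraMap] at key
  exact mul_mem key (aeval_mem_adjoin_singleton _ _)

variable {k k' : Type u} {K K' : Type*} [Field k] [Field k'] [Field K] [Field K'] [Algebra k k']
  [FiniteDimensional k k'] [Algebra k K] [Algebra K K'] [Algebra k' K'] [Algebra k K']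
  [IsScalarTower k k' K'] [IsScalarTower k K K']
  (h : Function.Bijective (Algebra.TensorProduct.productMap
    (IsScalarTower.toAlgHom k k' K') (IsScalarTower.toAlgHom k K K')))

include h

theorem nonsingular_of_unit (hK : IsFunctionField k K) {x y : K} (hx : Transcendental k x)
    (hgen : IntermediateField.adjoin k ({x, y} : Set K) = ⊤)
    {f : (Algebra.adjoin k ({x} : Set K))[X]} (hf : f.Monic) (hfy : aeval y f = 0)
    (P : Place k K) (hPx : P.1 x ≤ 1) (hPd : P.1 (aeval y (derivative f)) = 1) :
    integralClosure (P.O.toSubring.map (algebraMap K K')) K' =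
      Algebra.adjoin (P.O.toSubring.map (algebraMap K K')) (Set.range (algebraMap k' K')) := by
  classical
  have hF := IsFF.of_isFunctionField hK
  haveI := finiteDimensional_of_tensor h
  have hF' : IsFF k K' := hF.ext
  set T := P.O.toSubring.map (algebraMap K K')
  set R := Algebra.adjoin T (Set.range (algebraMap k' K'))
  set d := aeval y (derivative f) with hd
  have hd0 : d ≠ 0 := fun h0 => by rw [h0, map_zero] at hPd; exact zero_ne_one hPd
  have hmemR : ∀ a : K, P.1 a ≤ 1 → algebraMap K K' a ∈ R := fun a ha =>
    R.algebraMap_mem ⟨_, a, ha, rfl⟩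
  have hPA : ∀ a ∈ (Algebra.adjoin k ({x} : Set K)), P.1 a ≤ 1 := fun a ha => by
    induction ha using Algebra.adjoin_induction with
    | mem w hw => rw [Set.mem_singleton_iff] at hw; rw [hw]; exact hPx
    | algebraMap c => exact P.2.1 c
    | add a b _ _ ha hb => exact Valuation.map_add_le _ ha hb
    | mul a b _ _ ha hb => rw [map_mul]; exact mul_le_one' ha hb
  have hyi : IsIntegral (Algebra.adjoin k ({x} : Set K)) y := ⟨f, hf, by simpa [aeval_def] using hfy⟩
  have hPy : P.1 y ≤ 1 := by
    letI : Algebra (Algebra.adjoin k ({x} : Set K)) P.O := ((algebraMap (Algebra.adjoin k ({x} : Set K)) K).codRestrict P.O.toSubring fun a => hPA a.1 a.2).toAlgebra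
    haveI : IsScalarTower (Algebra.adjoin k ({x} : Set K)) P.O K := IsScalarTower.of_algebraMap_eq fun _ => rfl
    obtain ⟨a, ha⟩ := IsIntegrallyClosed.isIntegral_iff.1 (hyi.tower_top (A := P.O))
    exact ha ▸ a.2
  -- the affine ring upstairs
  set x' := algebraMap K K' x
  have hx' : Transcendental k' x' := fun halg => hx (by
    have := IsAlgebraic.restrictScalars k halg
    rwa [isAlgebraic_algebraMap_iff (algebraMap K K').injective] at this)
  set A := Algebra.adjoin k' ({x'} : Set K')
  set L := IntermediateField.adjoin k' ({x'} : Set K')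
  haveI : FiniteDimensional L K' := finiteDimensional_base (k' := k') hF hx
  letI iAL : Algebra A L :=
    (Subalgebra.inclusion (IntermediateField.algebra_adjoin_le_adjoin k' ({x'} : Set K'))).toAlgebra
  haveI : IsScalarTower A L K' := IsScalarTower.of_algebraMap_eq fun _ => rfl
  haveI : FaithfulSMul A L := (faithfulSMul_iff_algebraMap_injective A L).2 fun a b hab =>
    Subtype.ext (congrArg (fun w : L => (w : K')) hab)
  haveI : IsFractionRing A L := .of_field _ _ fun ⟨_, hmem⟩ =>
    have ⟨a, ha, b, hb, e⟩ := IntermediateField.mem_adjoin_iff_div.mp hmem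
    ⟨⟨a, ha⟩, ⟨b, hb⟩, Subtype.ext e⟩
  haveI : IsIntegrallyClosed A :=
    IsIntegrallyClosed.of_equiv (Polynomial.algEquivOfTranscendental k' x' hx').toRingEquiv
  have hmap : ∀ a ∈ (Algebra.adjoin k ({x} : Set K)), algebraMap K K' a ∈ A := fun a ha => by
    induction ha using Algebra.adjoin_induction with
    | mem w hw =>
      rw [Set.mem_singleton_iff] at hw; rw [hw]; exact Algebra.self_mem_adjoin_singleton k' x'
    | algebraMap c =>
      rw [← IsScalarTower.algebraMap_apply k K K', IsScalarTower.algebraMap_apply k k' K']
      exact Subalgebra.algebraMap_mem _ _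
    | add a b _ _ ha hb => rw [map_add]; exact add_mem ha hb
    | mul a b _ _ ha hb => rw [map_mul]; exact mul_mem ha hb
  let ι : (Algebra.adjoin k ({x} : Set K)) →+* A :=
    ((algebraMap K K').comp (algebraMap (Algebra.adjoin k ({x} : Set K)) K)).codRestrict A fun a => hmap a.1 a.2
  have hι : (algebraMap A K').comp ι = (algebraMap K K').comp (algebraMap (Algebra.adjoin k ({x} : Set K)) K) := rfl
  have heval : ∀ g : (Algebra.adjoin k ({x} : Set K))[X], aeval (algebraMap K K' y) (g.map ι) = algebraMap K K' (aeval y g) := fun g => by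
    rw [aeval_def, aeval_def, eval₂_map, hι, hom_eval₂]
  set y' := algebraMap K K' y
  have hy' : IsIntegral A y' := ⟨f.map ι, hf.map ι, by
    rw [← aeval_def, heval, hfy, map_zero]⟩
  have htop : IntermediateField.adjoin L ({y'} : Set K') = ⊤ := by
    rw [eq_top_iff]
    intro z _
    have hK : ∀ a : K, algebraMap K K' a ∈ IntermediateField.adjoin L ({y'} : Set K') := fun a => by
      have ha : a ∈ IntermediateField.adjoin k ({x, y} : Set K) := hgen ▸ IntermediateField.mem_top
      induction ha using IntermediateField.adjoin_induction with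
      | mem w hw =>
        rcases hw with rfl | hw
        · exact IntermediateField.algebraMap_mem _ (IntermediateField.AdjoinSimple.gen k' (algebraMap K K' w))
        · rw [Set.mem_singleton_iff] at hw; rw [hw]; exact IntermediateField.mem_adjoin_simple_self L y'
      | algebraMap c =>
        rw [← IsScalarTower.algebraMap_apply k K K', IsScalarTower.algebraMap_apply k k' K',
          IsScalarTower.algebraMap_apply k' L K']
        exact IntermediateField.algebraMap_mem _ _
      | add a b _ _ ha hb => rw [map_add]; exact add_mem ha hb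
      | inv a _ ha => rw [map_inv₀]; exact inv_mem ha
      | mul a b _ _ ha hb => rw [map_mul]; exact mul_mem ha hb
    obtain ⟨t, rfl⟩ := h.2 z
    induction t using TensorProduct.induction_on with
    | zero => rw [map_zero]; exact zero_mem _
    | tmul c a =>
      rw [Algebra.TensorProduct.productMap_apply_tmul]
      refine mul_mem ?_ (hK a)
      change algebraMap k' K' c ∈ _
      rw [IsScalarTower.algebraMap_apply k' L K']
      exact IntermediateField.algebraMap_mem _ _
    | add a b ha hb => rw [map_add]; exact add_mem (ha trivial) (hb trivial)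
  have hder : aeval y' (derivative (f.map ι)) = algebraMap K K' d := by
    rw [derivative_map, heval]
  have hAR : ∀ a ∈ Algebra.adjoin A ({y'} : Set K'), a ∈ R := fun a ha => by
    induction ha using Algebra.adjoin_induction with
    | mem w hw => rw [Set.mem_singleton_iff] at hw; rw [hw]; exact hmemR y hPy
    | algebraMap c =>
      change (c : K') ∈ R
      obtain ⟨w, hw⟩ := c
      induction hw using Algebra.adjoin_induction with
      | mem w hw => rw [Set.mem_singleton_iff] at hw; subst hw; exact hmemR x hPx
      | algebraMap c => exact Algebra.subset_adjoin ⟨c, rfl⟩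
      | add a b _ _ ha hb => exact add_mem ha hb
      | mul a b _ _ ha hb => exact mul_mem ha hb
    | add a b _ _ ha hb => exact add_mem ha hb
    | mul a b _ _ ha hb => exact mul_mem ha hb
  refine SetLike.ext fun z => ⟨fun hz => ?_, fun hz => ?_⟩
  swap
  · rw [Tower.mem_integralClosure_image hF]
    intro Q hQ
    induction hz using Algebra.adjoin_induction with
    | mem w hw =>
      obtain ⟨c, rfl⟩ := hw
      exact not_lt.1 fun hc =>
        transcendental_of_one_lt_val Q hc ((Algebra.IsAlgebraic.isAlgebraic c).algebraMap)
    | algebraMap t =>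
      obtain ⟨a, ha, hat⟩ := t.2
      rw [show algebraMap T K' t = algebraMap K K' a from hat.symm]
      exact (over_le_one_iff hQ a).2 ha
    | add a b _ _ ha hb => exact Valuation.map_add_le _ ha hb
    | mul a b _ _ ha hb => rw [map_mul]; exact mul_le_one' ha hb
  rw [Tower.mem_integralClosure_image hF] at hz
  -- remove the affine poles away from `P`
  obtain ⟨Pinf, hinf⟩ := hF.exists_zero_place (IsFF.transcendental_inv hx)
  have hinf1 : 1 < Pinf.1 x := by
    rw [map_inv₀] at hinf
    rcases inv_lt_one_iff₀.1 hinf with h' | h'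
    · exact absurd (le_zero_iff.1 h') (by
        rw [map_eq_zero]
        exact fun h0 => hx (h0 ▸ isAlgebraic_zero))
    · exact h'
  set B : Finset (Place k K') := (hF'.finite_support_ord z).toFinset
  choose bel hbel using fun Q : Place k K' => hF.exists_isOver Q
  set S : Finset (Place k K) := (insert P (B.image bel)).filter fun p => p.1 x ≤ 1
  set N : ℕ := B.sup fun Q => (-(Q.ord z)).toNat
  obtain ⟨s, hs, hso⟩ := strong_approximation hK Pinf S
    (fun hmem => not_le.2 hinf1 (Finset.mem_filter.1 hmem).2) (fun _ => 0)
    (fun p => if p = P then 0 else -(N : ℤ))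
  simp only [sub_zero] at hs
  have hsP : P.1 s = 1 := by
    rw [hs P (Finset.mem_filter.2 ⟨Finset.mem_insert_self _ _, hPx⟩), if_pos rfl, WithZero.exp_zero]
  have hint : IsIntegral A (algebraMap K K' s * z) := by
    have h0 := isIntegral_of_affine hF' (x := x') (z := algebraMap K K' s * z) fun Q hQ => ?_
    · letI : Algebra (Algebra.adjoin k ({x'} : Set K')) A :=
        ((algebraMap (Algebra.adjoin k ({x'} : Set K')) K').codRestrict A fun a => by
          obtain ⟨w, hw⟩ := a
          change w ∈ A
          induction hw using Algebra.adjoin_induction with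
          | mem w hw => rw [Set.mem_singleton_iff] at hw; rw [hw]; exact Algebra.self_mem_adjoin_singleton k' x'
          | algebraMap c =>
            rw [IsScalarTower.algebraMap_apply k k' K']
            exact Subalgebra.algebraMap_mem _ _
          | add a b _ _ ha hb => exact add_mem ha hb
          | mul a b _ _ ha hb => exact mul_mem ha hb).toAlgebra
      haveI : IsScalarTower (Algebra.adjoin k ({x'} : Set K')) A K' :=
        IsScalarTower.of_algebraMap_eq fun _ => rfl
      exact h0.tower_top
    set p := bel Q
    have hp1 : p.1 x ≤ 1 := (over_le_one_iff (hbel Q) x).1 hQ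
    obtain ⟨e, he⟩ := hbel Q
    rcases eq_or_ne p P with hpP | hpP
    · have hQP : IsOver Q P := hpP ▸ ⟨e, he⟩
      rw [map_mul, he, show bel Q = P from hpP, hsP, one_pow, one_mul]
      exact hz Q hQP
    have hpinf : p ≠ Pinf := fun h' => not_le.2 hinf1 (h' ▸ hp1)
    by_cases hQB : Q ∈ B
    · have hpS : p ∈ S :=
        Finset.mem_filter.2 ⟨Finset.mem_insert_of_mem (Finset.mem_image_of_mem bel hQB), hp1⟩
      rw [map_mul, he, hs p hpS, if_neg hpP, ← WithZero.exp_nsmul]
      rcases eq_or_ne z 0 with rfl | hz0
      · simp
      rw [val_eq_exp_neg_ord Q hz0, ← WithZero.exp_add, ← WithZero.exp_zero, WithZero.exp_le_exp,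
        nsmul_eq_mul]
      have he0 := overWith_pos he
      have hsup := Finset.le_sup (f := fun Q : Place k K' => (-(Q.ord z)).toNat) hQB
      have hmul : (N : ℤ) ≤ (e : ℤ) * N := le_mul_of_one_le_left (by positivity) (by exact_mod_cast he0)
      rw [mul_neg]
      omega
    · have hord : Q.ord z = 0 := by
        by_contra hne
        exact hQB ((hF'.finite_support_ord z).mem_toFinset.2 hne)
      have hsle : p.1 s ≤ 1 := by
        by_cases hpS : p ∈ S
        · rw [hs p hpS, if_neg hpP, ← WithZero.exp_zero, WithZero.exp_le_exp]; omega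
        · exact hso p hpinf hpS
      rw [map_mul]
      refine mul_le_one' ((over_le_one_iff ⟨e, he⟩ s).2 hsle) ?_
      exact (val_le_one_iff Q z).2 hord.ge
  have hkey := hAR _ (derivative_mul_mem (L := L) hy' htop (f := f.map ι) (by rw [heval, hfy, map_zero])
    (by rw [hder, ne_eq, map_eq_zero]; exact hd0) hint)
  rw [hder] at hkey
  have hinv : algebraMap K K' (d * s)⁻¹ ∈ R := hmemR _ (by
    rw [map_inv₀, map_mul, hPd, hsP, one_mul, inv_one])
  have := mul_mem hinv hkey
  have hds : algebraMap K K' (d * s) ≠ 0 := by
    rw [_root_.map_ne_zero]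
    exact mul_ne_zero hd0 fun h0 => by rw [h0, map_zero] at hsP; exact zero_ne_one hsP
  rwa [← mul_assoc (algebraMap K K' d), ← map_mul, map_inv₀, inv_mul_cancel_left₀ hds] at this

end Groth.Funfld2.Small.Good

namespace Groth.Funfld2.Small.Good

open scoped TensorProduct

universe w

/-- A plane generation with separable integral equation. -/
theorem exists_model {k : Type w} {K : Type*} [Field k] [Field K] [Algebra k K]
    (hK : IsFunctionField k K) (hg : IsGeometric k K) :
    ∃ (x y : K) (f : (Algebra.adjoin k ({x} : Set K))[X]), Transcendental k x ∧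
      IntermediateField.adjoin k ({x, y} : Set K) = ⊤ ∧ f.Monic ∧ aeval y f = 0 ∧
      aeval y (derivative f) ≠ 0 ∧
      {P : Place k K | ¬ (P.1 x ≤ 1 ∧ P.1 (aeval y (derivative f)) = 1)}.Finite := by
  classical
  have hF := IsFF.of_isFunctionField hK
  obtain ⟨x, hx, hsep⟩ := Groth.Funfld2.Residue.exists_separating hF hg
  haveI := hF.finiteDimensional hx
  haveI := hsep
  set L := IntermediateField.adjoin k ({x} : Set K)
  obtain ⟨α, hα⟩ := Field.exists_primitive_element L K
  letI iAL : Algebra (Algebra.adjoin k ({x} : Set K)) L :=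
    (Subalgebra.inclusion (IntermediateField.algebra_adjoin_le_adjoin k ({x} : Set K))).toAlgebra
  haveI : IsScalarTower (Algebra.adjoin k ({x} : Set K)) L K := IsScalarTower.of_algebraMap_eq fun _ => rfl
  haveI : FaithfulSMul (Algebra.adjoin k ({x} : Set K)) L :=
    (faithfulSMul_iff_algebraMap_injective _ L).2 fun a b hab =>
      Subtype.ext (congrArg (fun w : L => (w : K)) hab)
  haveI : IsFractionRing (Algebra.adjoin k ({x} : Set K)) L := .of_field _ _ fun ⟨_, hmem⟩ =>
    have ⟨a, ha, b, hb, e⟩ := IntermediateField.mem_adjoin_iff_div.mp hmem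
    ⟨⟨a, ha⟩, ⟨b, hb⟩, Subtype.ext e⟩
  haveI : IsIntegrallyClosed (Algebra.adjoin k ({x} : Set K)) :=
    IsIntegrallyClosed.of_equiv (Polynomial.algEquivOfTranscendental k x hx).toRingEquiv
  obtain ⟨c, hc⟩ := IsIntegral.exists_multiple_integral_of_isLocalization
    (nonZeroDivisors (Algebra.adjoin k ({x} : Set K))) α (IsIntegral.of_finite L α)
  set y := c • α
  have hc0 : ((c : Algebra.adjoin k ({x} : Set K)) : K) ≠ 0 := fun h =>
    nonZeroDivisors.coe_ne_zero c (Subtype.ext h)
  have hy : y = ((c : Algebra.adjoin k ({x} : Set K)) : K) * α := rfl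
  have htop : IntermediateField.adjoin L ({y} : Set K) = ⊤ := by
    rw [eq_top_iff, ← hα, IntermediateField.adjoin_simple_le_iff]
    have hcmem : ((c : Algebra.adjoin k ({x} : Set K)) : K) ∈ IntermediateField.adjoin L ({y} : Set K) :=
      IntermediateField.algebraMap_mem _ (algebraMap (Algebra.adjoin k ({x} : Set K)) L c)
    rw [show α = ((c : Algebra.adjoin k ({x} : Set K)) : K)⁻¹ * y by
      rw [hy, inv_mul_cancel_left₀ hc0]]
    exact mul_mem (inv_mem hcmem) (IntermediateField.mem_adjoin_simple_self L y)
  have hgen : IntermediateField.adjoin k ({x, y} : Set K) = ⊤ := by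
    have := IntermediateField.adjoin_simple_adjoin_simple k x y
    rw [htop, IntermediateField.restrictScalars_top] at this
    exact this.symm
  set f := minpoly (Algebra.adjoin k ({x} : Set K)) y
  have hd : aeval y (derivative f) ≠ 0 := by
    have := (Algebra.IsSeparable.isSeparable L y).aeval_derivative_ne_zero (minpoly.aeval L y)
    rwa [minpoly.isIntegrallyClosed_eq_field_fractions' L hc, derivative_map, aeval_map_algebraMap] at this
  refine ⟨x, y, f, hx, hgen, minpoly.monic hc, minpoly.aeval _ _, hd, ?_⟩
  refine ((hF.finite_support_ord x).union (hF.finite_support_ord (aeval y (derivative f)))).subset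
    fun P hP => ?_
  simp only [Set.mem_union, Function.mem_support]
  simp only [Set.mem_ofPred_eq, not_and_or] at hP
  rcases hP with hP | hP
  · left
    have := (one_lt_val_iff P x).1 (not_le.1 hP)
    omega
  · right
    intro h0
    refine hP ?_
    rw [val_eq_exp_neg_ord P hd, h0, neg_zero, WithZero.exp_zero]

end Groth.Funfld2.Small.Good
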