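import Groth.Agent.Funfld2.Small.RR
import Groth.Agent.FunFld1.Rational
import Mathlib.RingTheory.AlgebraicIndependent.Basic
import Mathlib.RingTheory.Polynomial.Basic

/-! Uniqueness of the rational subfield of index two. -/

open FunFld Groth.FunFld1
open WithZero (exp)

namespace Groth.Funfld2.Small

variable {k K : Type*} [Field k] [Field K] [Algebra k K]

theorem transcendental_of_finrank_two (hK : IsFunctionField k K) {x : K}
    (hx : Module.finrank (IntermediateField.adjoin k ({x} : Set K)) K = 2) : Transcendental k x := by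
  intro halg
  obtain ⟨⟨t, ht, -⟩, hconst⟩ := hK
  obtain ⟨c, hc⟩ := hconst x halg
  have hbot : IntermediateField.adjoin k ({x} : Set K) = ⊥ :=
    IntermediateField.adjoin_simple_eq_bot_iff.2 (IntermediateField.mem_bot.2 ⟨c, hc⟩)
  rw [hbot] at hx
  have h2 : Module.finrank k K = 2 := by rw [← hx]; exact (IntermediateField.finrank_bot').symm
  have : FiniteDimensional k K := Module.finite_of_finrank_eq_succ h2
  exact ht (Algebra.IsAlgebraic.isAlgebraic t)

/-- `(g-1)` times the degree two pencil is canonical. -/
theorem canonical_pencil (hK : IsFunctionField k K) {x : K}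
    (hx : Module.finrank (IntermediateField.adjoin k ({x} : Set K)) K = 2) :
    IsCanonical k K (((genus k K : ℤ) - 1) • zeroDiv k x⁻¹) ∧
      ∀ z ∈ L (((genus k K : ℤ) - 1) • zeroDiv k x⁻¹), ∃ a : Polynomial k, z = Polynomial.aeval x a := by
  classical
  have hF := IsFF.of_isFunctionField hK
  have htr := transcendental_of_finrank_two hK hx
  have hx0 : x ≠ 0 := fun e => htr (e ▸ isAlgebraic_zero)
  have := hF.finiteDimensional htr
  set g := genus k K with hg'
  set D := ((g : ℤ) - 1) • zeroDiv k x⁻¹ with hD
  have hsmul : ∀ (n : ℤ) (E : Divisor k K), (n • E).deg = n * E.deg := by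
    intro n E
    induction E using Finsupp.induction_linear with
    | zero => simp [deg_zero]
    | add E E' hE hE' => rw [smul_add, deg_add, hE, hE', deg_add]; ring
    | single Q m => rw [Finsupp.smul_single, deg_single, deg_single, smul_eq_mul]; ring
  have hdeg : D.deg = 2 * (g : ℤ) - 2 := by
    rw [hD, hsmul, hF.deg_poleDiv_eq htr, hx]; push_cast; ring
  let ι : Polynomial k →ₗ[k] K := (Polynomial.aeval (R := k) x).toLinearMap
  let W := (Polynomial.degreeLT k g).map ι
  have hinj : Function.Injective ι := transcendental_iff_injective.1 htr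
  have hW : W ≤ L D := by
    refine Submodule.map_le_iff_le_comap.2 fun a ha => ?_
    rw [Polynomial.degreeLT_eq_span_X_pow] at ha
    refine (Submodule.span_le.2 ?_) ha
    intro q hq
    simp only [Finset.coe_image, Finset.coe_range, Set.mem_image, Set.mem_Iio] at hq
    obtain ⟨i, hi, rfl⟩ := hq
    show ι (Polynomial.X ^ i) ∈ L D
    intro P
    have e : ι (Polynomial.X ^ i) = x ^ i := by simp [ι]
    rw [e, map_pow, hD, Finsupp.smul_apply, smul_eq_mul, hF.zeroDiv_apply, ord_inv,
      val_eq_exp_neg_ord P hx0, ← WithZero.exp_nsmul, WithZero.exp_le_exp, nsmul_eq_mul]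
    rcases le_or_gt 0 (P.ord x) with h | h
    · rw [max_eq_right (by omega), mul_zero, mul_neg, neg_nonpos]
      positivity
    · rw [max_eq_left (by omega)]
      exact mul_le_mul_of_nonneg_right (by omega) (by omega)
  have hfr : Module.finrank k W = g := by
    rw [(Submodule.equivMapOfInjective ι hinj _).finrank_eq.symm,
      (Polynomial.degreeLTEquiv k g).finrank_eq, Module.finrank_fin_fun]
  have := hF.finiteDimensional_L D
  have hge : g ≤ ell D := hfr ▸ Submodule.finrank_mono hW
  obtain ⟨C, hC⟩ := exists_isCanonical hK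
  have hrr := riemann_roch hK hC D
  have hle : ell (C - D) ≤ 1 := by
    by_contra hgt
    have := ell_add_of_principal hK (D := C - D) (by omega)
      (by rw [deg_sub, deg_canonical hK hC, hdeg, sub_self]) 0
    rw [zero_add, ell_zero_eq hK] at this
    omega
  have heq : ell D = g := by
    rw [hdeg] at hrr
    omega
  refine ⟨(isCanonical_iff hK D).2 ⟨heq, hdeg⟩, fun z hz => ?_⟩
  have hWL : W = L D := Submodule.eq_of_le_of_finrank_eq hW (hfr.trans heq.symm)
  obtain ⟨a, -, rfl⟩ := (hWL.symm ▸ hz : z ∈ W)
  exact ⟨a, rfl⟩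

theorem mem_of_pencils (hK : IsFunctionField k K) (hg : 2 ≤ genus k K) {x x' : K}
    (hx : Module.finrank (IntermediateField.adjoin k ({x} : Set K)) K = 2)
    (hx' : Module.finrank (IntermediateField.adjoin k ({x'} : Set K)) K = 2) :
    x' ∈ IntermediateField.adjoin k ({x} : Set K) := by
  classical
  have hF := IsFF.of_isFunctionField hK
  have htr' := transcendental_of_finrank_two hK hx'
  have hx0 : x' ≠ 0 := fun e => htr' (e ▸ isAlgebraic_zero)
  obtain ⟨hC, hpoly⟩ := canonical_pencil hK hx
  obtain ⟨hC', -⟩ := canonical_pencil hK hx'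
  set C := ((genus k K : ℤ) - 1) • zeroDiv k x⁻¹
  set C' := ((genus k K : ℤ) - 1) • zeroDiv k x'⁻¹ with hC'def
  have hrr := riemann_roch hK hC C'
  rw [deg_canonical hK hC', ell_canonical hK hC'] at hrr
  have hne : L (C - C') ≠ ⊥ := by
    intro h
    have h1 : ell (C - C') = 0 := by unfold ell; rw [h]; exact finrank_bot k K
    omega
  obtain ⟨z, hz, hzD⟩ := exists_eq_neg_div hK hne
    (by rw [deg_sub, deg_canonical hK hC, deg_canonical hK hC', sub_self])
  have hzP : ∀ P, C P = C' P - P.ord z := fun P => by
    have := DFunLike.congr_fun hzD P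
    rw [Finsupp.add_apply, Finsupp.sub_apply, hF.div_apply, Finsupp.zero_apply] at this
    omega
  have h1 : z ∈ L C := fun P => by
    have h := hF.zeroDiv_apply x'⁻¹ P
    rw [val_eq_exp_neg_ord P hz, WithZero.exp_le_exp, hzP, hC'def, Finsupp.smul_apply, smul_eq_mul, h]
    have := mul_nonneg (show (0 : ℤ) ≤ (genus k K : ℤ) - 1 by omega) (le_max_right (P.ord x'⁻¹) 0)
    omega
  have h2 : z * x' ∈ L C := fun P => by
    have h := hF.zeroDiv_apply x'⁻¹ P
    rw [val_eq_exp_neg_ord P (mul_ne_zero hz hx0), WithZero.exp_le_exp, hzP, hC'def,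
      Finsupp.smul_apply, smul_eq_mul, h, ord_mul P hz hx0, ord_inv]
    have := le_mul_of_one_le_left (le_max_right (-P.ord x') 0)
      (show (1 : ℤ) ≤ (genus k K : ℤ) - 1 by omega)
    have := le_max_left (-P.ord x') 0
    omega
  obtain ⟨a, ha⟩ := hpoly z h1
  obtain ⟨b, hb⟩ := hpoly _ h2
  have hmem : ∀ q : Polynomial k, Polynomial.aeval x q ∈ IntermediateField.adjoin k ({x} : Set K) :=
    fun q => IntermediateField.algebra_adjoin_le_adjoin k _
      (Polynomial.aeval_mem_adjoin_singleton k x)
  have e : x' = (z * x') / z := by field_simp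
  rw [e, hb, ha]
  exact div_mem (hmem b) (hmem a)

theorem rational_subfield_unique (hK : IsFunctionField k K) (hg : 2 ≤ genus k K) {x x' : K}
    (hx : Module.finrank (IntermediateField.adjoin k ({x} : Set K)) K = 2)
    (hx' : Module.finrank (IntermediateField.adjoin k ({x'} : Set K)) K = 2) :
    IntermediateField.adjoin k ({x} : Set K) = IntermediateField.adjoin k ({x'} : Set K) :=
  le_antisymm
    (IntermediateField.adjoin_simple_le_iff.2 (mem_of_pencils hK hg hx' hx))
    (IntermediateField.adjoin_simple_le_iff.2 (mem_of_pencils hK hg hx hx'))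

end Groth.Funfld2.Small
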