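import Groth.Agent.Funfld2.Small.Splitting
import Groth.Agent.Funfld2.Small.Good
import Groth.Agent.FunFld1.ConstClosure
import Mathlib.Algebra.Polynomial.Eval.Irreducible
import Mathlib.FieldTheory.PurelyInseparable.PerfectClosure

/-! Nonsingularity after a finite purely inseparable extension of the constants. -/

open FunFld Groth.FunFld1 Polynomial
open WithZero (exp)
open scoped TensorProduct

set_option linter.unusedSectionVars false
set_option linter.style.haveILetI false

namespace Groth.Funfld2.Small.Perfect

universe u v

/-- From `O_P`-algebras to subrings of the big field. -/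
theorem image_form {k K K' : Type*} [Field k] [Field K] [Field K'] [Algebra k K] [Algebra K K']
    [Algebra k K'] [IsScalarTower k K K'] [FiniteDimensional K K'] (hF : IsFF k K) (P : Place k K)
    [Algebra P.O K'] [IsScalarTower P.O K K'] (S : Set K')
    (h : integralClosure P.O K' = Algebra.adjoin P.O S) :
    integralClosure (P.O.toSubring.map (algebraMap K K')) K' =
      Algebra.adjoin (P.O.toSubring.map (algebraMap K K')) S := by
  refine SetLike.ext fun z => ?_
  rw [Tower.mem_integralClosure_image hF, ← hF.mem_integralClosure_iff (K' := K') P z, h]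
  constructor <;> intro hz
  · induction hz using Algebra.adjoin_induction with
    | mem w hw => exact Algebra.subset_adjoin hw
    | algebraMap a =>
      rw [algebraMap_O_apply]
      exact Subalgebra.algebraMap_mem _
        (⟨_, a.1, a.2, rfl⟩ : P.O.toSubring.map (algebraMap K K'))
    | add a b _ _ ha hb => exact add_mem ha hb
    | mul a b _ _ ha hb => exact mul_mem ha hb
  · induction hz using Algebra.adjoin_induction with
    | mem w hw => exact Algebra.subset_adjoin hw
    | algebraMap t =>
      obtain ⟨a, ha, hat⟩ := t.2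
      have h1 := Subalgebra.algebraMap_mem (Algebra.adjoin P.O S) (⟨a, ha⟩ : P.O)
      rw [algebraMap_O_apply] at h1
      have e : algebraMap (P.O.toSubring.map (algebraMap K K')) K' t = algebraMap K K' a := hat.symm
      rw [e]
      exact h1
    | add a b _ _ ha hb => exact add_mem ha hb
    | mul a b _ _ ha hb => exact mul_mem ha hb

/-- A plane model stays one after extending the constants. -/
theorem model_map {k : Type u} {k' : Type u} {K K' : Type*} [Field k] [Field k'] [Field K] [Field K']
    [Algebra k k'] [Algebra k K] [Algebra K K'] [Algebra k' K'] [Algebra k K'] [IsScalarTower k k' K']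
    [IsScalarTower k K K']
    (h : Function.Bijective (Algebra.TensorProduct.productMap
      (IsScalarTower.toAlgHom k k' K') (IsScalarTower.toAlgHom k K K')))
    {x y : K} (hgen : IntermediateField.adjoin k ({x, y} : Set K) = ⊤)
    {f : (Algebra.adjoin k ({x} : Set K))[X]} (hf : f.Monic) (hfy : aeval y f = 0) :
    IntermediateField.adjoin k' ({algebraMap K K' x, algebraMap K K' y} : Set K') = ⊤ ∧
      ∃ f' : (Algebra.adjoin k' ({algebraMap K K' x} : Set K'))[X], f'.Monic ∧
        aeval (algebraMap K K' y) f' = 0 ∧
        aeval (algebraMap K K' y) (derivative f') = algebraMap K K' (aeval y (derivative f)) := by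
  set x' := algebraMap K K' x
  set y' := algebraMap K K' y
  constructor
  · rw [eq_top_iff]
    intro z _
    have hK : ∀ a : K, algebraMap K K' a ∈ IntermediateField.adjoin k' ({x', y'} : Set K') := fun a => by
      have ha : a ∈ IntermediateField.adjoin k ({x, y} : Set K) := hgen ▸ IntermediateField.mem_top
      induction ha using IntermediateField.adjoin_induction with
      | mem w hw =>
        refine IntermediateField.subset_adjoin k' _ ?_
        rcases hw with rfl | hw
        · exact Or.inl rfl
        · exact Or.inr (by rw [Set.mem_singleton_iff] at hw; rw [hw]; rfl)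
      | algebraMap c =>
        rw [← IsScalarTower.algebraMap_apply k K K', IsScalarTower.algebraMap_apply k k' K']
        exact IntermediateField.algebraMap_mem _ _
      | add a b _ _ ha hb => rw [map_add]; exact add_mem ha hb
      | inv a _ ha => rw [map_inv₀]; exact inv_mem ha
      | mul a b _ _ ha hb => rw [map_mul]; exact mul_mem ha hb
    obtain ⟨t, rfl⟩ := h.2 z
    clear * - t hK
    induction t using TensorProduct.induction_on with
    | zero => rw [map_zero]; exact zero_mem _
    | tmul c a =>
      rw [Algebra.TensorProduct.productMap_apply_tmul]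
      exact mul_mem (IntermediateField.algebraMap_mem _ c) (hK a)
    | add a b ha hb => rw [map_add]; exact add_mem ha hb
  · have hmap : ∀ a ∈ (Algebra.adjoin k ({x} : Set K)),
        algebraMap K K' a ∈ Algebra.adjoin k' ({x'} : Set K') := fun a ha => by
      induction ha using Algebra.adjoin_induction with
      | mem w hw =>
        rw [Set.mem_singleton_iff] at hw; rw [hw]; exact Algebra.self_mem_adjoin_singleton k' x'
      | algebraMap c =>
        rw [← IsScalarTower.algebraMap_apply k K K', IsScalarTower.algebraMap_apply k k' K']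
        exact Subalgebra.algebraMap_mem _ _
      | add a b _ _ ha hb => rw [map_add]; exact add_mem ha hb
      | mul a b _ _ ha hb => rw [map_mul]; exact mul_mem ha hb
    let ι : (Algebra.adjoin k ({x} : Set K)) →+* Algebra.adjoin k' ({x'} : Set K') :=
      ((algebraMap K K').comp (algebraMap (Algebra.adjoin k ({x} : Set K)) K)).codRestrict
        (Algebra.adjoin k' ({x'} : Set K')) fun a => hmap a.1 a.2
    have hι : (algebraMap (Algebra.adjoin k' ({x'} : Set K')) K').comp ι =
        (algebraMap K K').comp (algebraMap (Algebra.adjoin k ({x} : Set K)) K) := rfl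
    have heval : ∀ g : (Algebra.adjoin k ({x} : Set K))[X],
        aeval y' (g.map ι) = algebraMap K K' (aeval y g) := fun g => by
      rw [aeval_def, aeval_def, eval₂_map, hι, hom_eval₂]
    exact ⟨f.map ι, hf.map ι, by rw [heval, hfy, map_zero], by rw [derivative_map, heval]⟩

variable {k : Type u} {K : Type v} [Field k] [Field K] [Algebra k K]

variable {kp : Type u} [Field kp] [Algebra k kp] {M : Type*} [Field M] [Algebra kp M]

/-- If the residue of `z` has a minimal polynomial of degree `deg R` over `kp` defined over `E`
and `deg Q ≤ deg R`, then the residue field of `Q` is separable over `E`. -/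
theorem isSeparable_residue [PerfectField kp] (E : IntermediateField k kp) {K' : Type*} [Field K']
    [Algebra E K'] (j : K' →+* M)
    (hjE : ∀ c : E, j (algebraMap E K' c) = algebraMap kp M c) (hFE : IsFF E K') (hFM : IsFF kp M)
    (Q : Place E K') (R : Place kp M) (hQR : ∀ z, Q.1 z ≤ 1 ↔ R.1 (j z) ≤ 1) (hdeg : Q.deg ≤ R.deg)
    (z' : K') (hz : R.1 (j z') ≤ 1)
    (htop : IntermediateField.adjoin kp
      ({IsLocalRing.residue R.O ⟨j z', hz⟩} : Set (IsLocalRing.ResidueField R.O)) = ⊤)
    (p : Polynomial E)
    (hp : p.map (algebraMap E kp) = minpoly kp (IsLocalRing.residue R.O ⟨j z', hz⟩)) :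
    Algebra.IsSeparable E (IsLocalRing.ResidueField Q.O) := by
  haveI : @Module.Finite E (IsLocalRing.ResidueField Q.O) _ _ Algebra.toModule :=
    Module.finite_of_finrank_pos (hFE.deg_pos Q)
  haveI : @Module.Finite kp (IsLocalRing.ResidueField R.O) _ _ Algebra.toModule :=
    Module.finite_of_finrank_pos (hFM.deg_pos R)
  set c := IsLocalRing.residue R.O ⟨j z', hz⟩
  have hcint : IsIntegral kp c := IsIntegral.of_finite kp c
  have hirr : Irreducible (p.map (algebraMap E kp)) := hp ▸ minpoly.irreducible hcint
  have hmonic : p.Monic :=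
    monic_of_injective (algebraMap E kp).injective (hp ▸ minpoly.monic hcint)
  have hirrp : Irreducible p :=
    Monic.irreducible_of_irreducible_map (algebraMap E kp) p hmonic hirr
  have hsepp : p.Separable :=
    (separable_map (algebraMap E kp)).1 (PerfectField.separable_of_irreducible hirr)
  have hdp : p.natDegree = R.deg := by
    rw [← natDegree_map_eq_of_injective (algebraMap E kp).injective p, hp,
      ← IntermediateField.adjoin.finrank hcint, htop, IntermediateField.finrank_top']
    rfl
  have hzQ : Q.1 z' ≤ 1 := (hQR z').2 hz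
  set c' := IsLocalRing.residue Q.O ⟨z', hzQ⟩ with hc'
  have hp0 : aeval c' p = 0 := by
    rw [hc', show IsLocalRing.residue Q.O ⟨z', hzQ⟩ = resK Q ⟨z', hzQ⟩ from rfl, aeval_algHom_apply]
    refine (residue_eq_zero_iff Q _).2 ?_
    set v : K' := ((aeval (⟨z', hzQ⟩ : Q.O) p : Q.O) : K') with hv
    have hv' : v = aeval z' p := by
      rw [hv]
      exact (aeval_algHom_apply (inclK Q) (⟨z', hzQ⟩ : Q.O) p).symm
    have hcomp : (algebraMap kp M).comp (algebraMap E kp) = j.comp (algebraMap E K') :=
      RingHom.ext fun d => (hjE d).symm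
    have hjv : j v = aeval (j z') (p.map (algebraMap E kp)) := by
      rw [hv', aeval_def, aeval_def, eval₂_map, hcomp, hom_eval₂]
    have hRv : R.1 (j v) < 1 := by
      have h0 := minpoly.aeval kp c
      rw [← hp] at h0
      rw [show c = resK R ⟨j z', hz⟩ from rfl, aeval_algHom_apply] at h0
      have := (residue_eq_zero_iff R _).1 h0
      rwa [show ((aeval (⟨j z', hz⟩ : R.O) (p.map (algebraMap E kp)) : R.O) : M) = j v by
        rw [hjv]; exact (aeval_algHom_apply (inclK R) (⟨j z', hz⟩ : R.O) _).symm] at this
    refine not_le.1 fun hge => not_le.2 hRv ?_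
    have h1 := (hQR v⁻¹).1 (by rw [map_inv₀]; exact inv_le_one_of_one_le₀ hge)
    rw [map_inv₀ j, map_inv₀] at h1
    have hv0 : j v ≠ 0 := by
      rw [_root_.map_ne_zero]; intro h0; rw [h0, map_zero] at hge
      exact absurd hge (not_le.2 zero_lt_one)
    rwa [inv_le_one₀ (zero_lt_iff.2 ((Valuation.ne_zero_iff _).2 hv0))] at h1
  have hminc : minpoly E c' = p := (minpoly.eq_of_irreducible_of_monic hirrp hp0 hmonic).symm
  have hcint' : IsIntegral E c' := IsIntegral.of_finite E c'
  have htop' : IntermediateField.adjoin E ({c'} : Set (IsLocalRing.ResidueField Q.O)) = ⊤ := by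
    refine IntermediateField.eq_of_le_of_finrank_le le_top ?_
    rw [IntermediateField.adjoin.finrank hcint', hminc, hdp, IntermediateField.finrank_top']
    exact hdeg
  have hs := (IntermediateField.isSeparable_adjoin_simple_iff_isSeparable (F := E)
    (E := IsLocalRing.ResidueField Q.O)).2 (show IsSeparable E c' by unfold IsSeparable; rwa [hminc])
  rw [htop'] at hs
  exact Algebra.IsSeparable.of_algHom E _
    (IntermediateField.topEquiv.symm.toAlgHom : IsLocalRing.ResidueField Q.O →ₐ[E] _)

set_option maxHeartbeats 1000000 in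
/-- A finite purely inseparable level over which every place is nonsingular. -/
theorem exists_level_nonsingular (hK : IsFunctionField k K) (hg : IsGeometric k K) :
    ∃ (k' : Type u) (_ : Field k') (_ : Algebra k k'), FiniteDimensional k k' ∧ IsPurelyInseparable k k' ∧
      ∀ (K' : Type v) [Field K'] [Algebra K K'] [Algebra k' K'] [Algebra k K']
        [IsScalarTower k k' K'] [IsScalarTower k K K'],
        Function.Bijective (Algebra.TensorProduct.productMap
          (IsScalarTower.toAlgHom k k' K') (IsScalarTower.toAlgHom k K K')) →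
        ∀ (Q : Place k' K') (k'' : Type u) [Field k''] [Algebra k' k''] [FiniteDimensional k' k'']
          (K'' : Type v) [Field K''] [Algebra K' K''] [Algebra k'' K''] [Algebra k' K'']
          [IsScalarTower k' k'' K''] [IsScalarTower k' K' K''],
          Function.Bijective (Algebra.TensorProduct.productMap
            (IsScalarTower.toAlgHom k' k'' K'') (IsScalarTower.toAlgHom k' K' K'')) →
          integralClosure (Q.O.toSubring.map (algebraMap K' K'')) K'' =
            Algebra.adjoin (Q.O.toSubring.map (algebraMap K' K'')) (Set.range (algebraMap k'' K'')) := by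
  classical
  have hF := IsFF.of_isFunctionField hK
  let P := perfectClosure k (AlgebraicClosure k)
  haveI : Algebra.IsAlgebraic k P := Algebra.IsIntegral.isAlgebraic
  letI : Field (P ⊗[k] K) := (Splitting.isField_tensor_algebraic (kb := P) hg).toField
  letI : Algebra K (P ⊗[k] K) :=
    (Algebra.TensorProduct.includeRight : K →ₐ[k] P ⊗[k] K).toRingHom.toAlgebra
  haveI : IsScalarTower k K (P ⊗[k] K) :=
    IsScalarTower.of_algebraMap_eq fun c => ((Algebra.TensorProduct.includeRight :
      K →ₐ[k] P ⊗[k] K).commutes c).symm
  have hinc : ∀ a : K, algebraMap K (P ⊗[k] K) a = (1 : P) ⊗ₜ[k] a := fun _ => rfl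
  have hFb : IsFF P (P ⊗[k] K) :=
    ConstField.isFF_bar (Splitting.bijective_productMap_tensor hinc) hF
  obtain ⟨x, y, f, hx, hgen, hf, hfy, hd, -⟩ := Good.exists_model hK hg
  set d := aeval y (derivative f)
  set xb := algebraMap K (P ⊗[k] K) x
  set db := algebraMap K (P ⊗[k] K) d with hdb
  have hbad : {R : Place P (P ⊗[k] K) | ¬ (R.1 xb ≤ 1 ∧ R.1 db = 1)}.Finite := by
    refine ((hFb.finite_support_ord xb).union (hFb.finite_support_ord db)).subset fun R hR => ?_
    simp only [Set.mem_union, Function.mem_support]
    simp only [Set.mem_ofPred_eq, not_and_or] at hR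
    rcases hR with hR | hR
    · left
      have := (one_lt_val_iff R xb).1 (not_le.1 hR)
      omega
    · right
      intro h0
      refine hR ?_
      rw [val_eq_exp_neg_ord R (by rw [hdb, _root_.map_ne_zero]; exact hd), h0, neg_zero,
        WithZero.exp_zero]
  choose t ht using fun R : Place P (P ⊗[k] K) => exists_val_eq_exp R (-1)
  choose w hw hwo using fun R : Place P (P ⊗[k] K) => hFb.exists_pole_only R
  have hres : ∀ R : Place P (P ⊗[k] K), ∃ z : R.O, IntermediateField.adjoin P
      ({IsLocalRing.residue R.O z} : Set (IsLocalRing.ResidueField R.O)) = ⊤ := fun R => by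
    haveI : @Module.Finite P (IsLocalRing.ResidueField R.O) _ _ Algebra.toModule :=
      Module.finite_of_finrank_pos (hFb.deg_pos R)
    obtain ⟨c, hc⟩ := Field.exists_primitive_element P (IsLocalRing.ResidueField R.O)
    obtain ⟨z, rfl⟩ := IsLocalRing.residue_surjective c
    exact ⟨z, hc⟩
  choose z hz using hres
  choose St hSt using fun R => Splitting.exists_level (K := K) (t R)
  choose Sw hSw using fun R => Splitting.exists_level (K := K) (w R)
  choose Sz hSz using fun R => Splitting.exists_level (K := K) ((z R : R.O) : P ⊗[k] K)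
  set S := hbad.toFinset.biUnion fun R =>
    St R ∪ Sw R ∪ Sz R ∪ (minpoly P (IsLocalRing.residue R.O (z R))).coeffs
  suffices H : ∀ E : IntermediateField k P, (∀ c ∈ S, c ∈ E) → FiniteDimensional k E →
      ∀ (K' : Type v) [Field K'] [Algebra K K'] [Algebra E K'] [Algebra k K']
        [IsScalarTower k E K'] [IsScalarTower k K K'],
        Function.Bijective (Algebra.TensorProduct.productMap
          (IsScalarTower.toAlgHom k E K') (IsScalarTower.toAlgHom k K K')) →
        ∀ (Q : Place E K') (k'' : Type u) [Field k''] [Algebra E k''] [FiniteDimensional E k'']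
          (K'' : Type v) [Field K''] [Algebra K' K''] [Algebra k'' K''] [Algebra E K'']
          [IsScalarTower E k'' K''] [IsScalarTower E K' K''],
          Function.Bijective (Algebra.TensorProduct.productMap
            (IsScalarTower.toAlgHom E k'' K'') (IsScalarTower.toAlgHom E K' K'')) →
          integralClosure (Q.O.toSubring.map (algebraMap K' K'')) K'' =
            Algebra.adjoin (Q.O.toSubring.map (algebraMap K' K'')) (Set.range (algebraMap k'' K'')) by
    have hfin : FiniteDimensional k (IntermediateField.adjoin k (S : Set P)) :=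
      IntermediateField.finiteDimensional_adjoin fun c _ =>
        (Algebra.IsAlgebraic.isAlgebraic c).isIntegral
    exact ⟨IntermediateField.adjoin k (S : Set P), inferInstance, inferInstance, hfin,
      IsPurelyInseparable.tower_bot k (IntermediateField.adjoin k (S : Set P)) P,
      H _ (fun c hc => IntermediateField.subset_adjoin k _ (Finset.mem_coe.2 hc)) hfin⟩
  intro E hSE hEfin K' _ _ _ _ _ _ hK' Q k'' _ _ _ K'' _ _ _ _ _ _ hK''
  obtain ⟨j, hjK, hjE, hind, hpre⟩ := Splitting.exists_embedding E hK'
  have hjE' : ∀ c : E, ∃ e : P, j (algebraMap E K' c) = algebraMap P (P ⊗[k] K) e :=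
    fun c => ⟨_, hjE c⟩
  haveI : FiniteDimensional K K' := finiteDimensional_of_tensor hK'
  have hKE : IsFunctionField E K' := isFunctionField_tensor hK' hK hg
  have hFE : IsFF E K' := IsFF.of_isFunctionField hKE
  obtain ⟨R, hQR⟩ := Splitting.exists_place_over j hjE' hind hFE hFb Q
  haveI : FiniteDimensional K' K'' := finiteDimensional_of_tensor hK''
  by_cases hR : R.1 xb ≤ 1 ∧ R.1 db = 1
  · obtain ⟨hgen', f', hf', hfy', hd'⟩ := model_map hK' hgen hf hfy
    have hx' : Transcendental E (algebraMap K K' x) := fun halg =>
      IsFF.transcendental_algebraMap hx (halg.restrictScalars k)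
    refine Good.nonsingular_of_unit hK'' hKE hx' hgen' hf' hfy' Q ?_ ?_
    · rw [hQR, hjK, ← hinc]; exact hR.1
    · rw [hd']
      have h1 : Q.1 (algebraMap K K' d) ≤ 1 := by rw [hQR, hjK, ← hinc]; exact hR.2.le
      have h2 : Q.1 (algebraMap K K' d)⁻¹ ≤ 1 := by
        rw [hQR, map_inv₀ j, map_inv₀, hjK, ← hinc, hR.2, inv_one]
      rw [map_inv₀] at h2
      refine le_antisymm h1 ?_
      rwa [inv_le_one₀ (zero_lt_iff.2 ((Valuation.ne_zero_iff _).2
        (by rw [_root_.map_ne_zero]; exact hd)))] at h2
  · have hmem : ∀ c ∈ St R ∪ Sw R ∪ Sz R ∪ (minpoly P (IsLocalRing.residue R.O (z R))).coeffs, c ∈ E :=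
      fun c hc => hSE c (Finset.mem_biUnion.2 ⟨R, hbad.mem_toFinset.2 hR, hc⟩)
    simp only [Finset.mem_union] at hmem
    obtain ⟨t', ht'⟩ := hpre _ (hSt R E fun c hc => hmem c (Or.inl (Or.inl (Or.inl hc))))
    obtain ⟨w', hw'⟩ := hpre _ (hSw R E fun c hc => hmem c (Or.inl (Or.inl (Or.inr hc))))
    obtain ⟨z', hz'⟩ := hpre _ (hSz R E fun c hc => hmem c (Or.inl (Or.inr hc)))
    have hdeg : Q.deg ≤ R.deg := Splitting.deg_le_of_lift j hjE' hind hFE hFb Q R hQR
      (t := t') (by rw [ht']; exact ht R) (w := w') (by rw [hw']; exact hw R)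
      (fun R₂ hne => by rw [hw']; exact hwo R R₂ hne)
    obtain ⟨p, hp⟩ : minpoly P (IsLocalRing.residue R.O (z R)) ∈
        lifts (algebraMap E P) := (lifts_iff_coeff_lifts _).2 fun n => by
      by_cases h0 : (minpoly P (IsLocalRing.residue R.O (z R))).coeff n = 0
      · exact ⟨0, by rw [map_zero, h0]⟩
      · exact ⟨⟨_, hmem _ (Or.inr (coeff_mem_coeffs h0))⟩, rfl⟩
    have hzj : (⟨j z', hz' ▸ (z R).2⟩ : R.O) = z R := Subtype.ext hz'
    haveI : Algebra.IsSeparable E (IsLocalRing.ResidueField Q.O) :=
      isSeparable_residue E j hjE hFE hFb Q R hQR hdeg z' _ (hzj.symm ▸ hz R)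
        p (hzj.symm ▸ hp)
    letI : Algebra Q.O K'' := ((algebraMap K' K'').comp Q.O.subtype).toAlgebra
    haveI : IsScalarTower Q.O K' K'' := IsScalarTower.of_algebraMap_eq fun _ => rfl
    exact image_form hFE Q _ (integralClosure_eq_adjoin_const hK'' hFE Q)

end Groth.Funfld2.Small.Perfect
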