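import Groth.Agent.FunFld1.GenusOne
import Groth.Agent.FunFld1.Rational
import Groth.Agent.Funfld2.Found

/-! Riemann–Roch arguments in genus one and two. -/

open FunFld Groth.FunFld1
open scoped WithZero

namespace Groth.Funfld2.Small

variable {k K : Type*} [Field k] [Field K] [Algebra k K]

theorem exists_mem_ne_zero {D : Divisor k K} (h : 1 ≤ ell D) : ∃ f ∈ L D, f ≠ 0 :=
  Submodule.exists_mem_ne_zero_of_ne_bot fun e => by
    unfold ell at h
    rw [e, finrank_bot] at h
    omega

variable (hK : IsFunctionField k K)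
include hK

/-- A degree zero divisor with a section is principal, so does not change `ell`. -/
theorem ell_add_of_principal {D : Divisor k K} (h : 1 ≤ ell D) (hd : D.deg = 0)
    (E : Divisor k K) : ell (E + D) = ell E := by
  have hF := IsFF.of_isFunctionField hK
  obtain ⟨x, hx, hxD⟩ := exists_eq_neg_div hK (D := D) (fun e => by
    unfold ell at h
    rw [e, finrank_bot] at h
    omega) hd
  rw [← hF.ell_add_div (E + D) hx, add_assoc, hxD, add_zero]

variable [IsAlgClosed k]

theorem deg_eq (D : Divisor k K) : D.deg = D.sum fun _ n => n := by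
  rw [Divisor.deg]
  exact Finsupp.sum_congr fun P _ => by
    rw [deg_eq_one_of_isAlgClosed (IsFF.of_isFunctionField hK) P, Nat.cast_one, mul_one]

theorem deg_single_eq (P : Place k K) (n : ℤ) : Divisor.deg (Finsupp.single P n) = n := by
  rw [Groth.FunFld1.deg_single, deg_eq_one_of_isAlgClosed (IsFF.of_isFunctionField hK) P,
    Nat.cast_one, mul_one]

section GenusOne

variable (hg : genus k K = 1) (A : Place k K)
include hg

theorem ell_genusOne {D : Divisor k K} (hD : 1 ≤ D.deg) : (ell D : ℤ) = D.deg := by
  have := ell_eq_of_deg_ge hK (D := D) (by rw [hg]; omega)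
  rw [hg] at this
  omega

theorem ell_single_genusOne {j : ℤ} (hj : 1 ≤ j) : (ell (Finsupp.single A j) : ℤ) = j := by
  rw [ell_genusOne hK hg (by rw [deg_single_eq hK]; exact hj), deg_single_eq hK]

end GenusOne

section GenusTwo

variable (hg : genus k K = 2) {C : Divisor k K} (hC : IsCanonical k K C)
include hg hC

theorem ell_deg_two {D : Divisor k K} (hd : D.deg = 2) (h : 2 ≤ ell D) : 1 ≤ ell (C - D) := by
  have h1 := riemann_roch hK hC D
  rw [hd, hg] at h1
  omega

theorem ell_deg_two_eq {D : Divisor k K} (hd : D.deg = 2) : 1 ≤ ell D → 1 ≤ ell (C - D) → ell D = 2 := by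
  intro h1 h2
  have hle : ell (C - D) ≤ 1 := by
    have hdeg : (C - D).deg = 0 := by
      rw [Groth.FunFld1.deg_sub, deg_canonical hK hC, hd, hg]; norm_num
    have h0 := ell_add_of_principal hK h2 hdeg 0
    rw [zero_add, ell_zero_eq hK] at h0
    omega
  have h3 := riemann_roch hK hC D
  rw [hd, hg] at h3
  omega

/-- The triple of a place that is no Weierstrass point does not contain the canonical class. -/
theorem no_triple {B : Place k K} (hB : ell (Finsupp.single B (2 : ℤ)) = 1) {E : Divisor k K}
    (hE : 0 ≤ E) (hdeg : E.deg = 1) (h : ell (Finsupp.single B (3 : ℤ) - E) = 2) : False := by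
  classical
  have hF := IsFF.of_isFunctionField hK
  obtain ⟨R, -, rfl⟩ := effective_deg_one hF hE hdeg
  rcases eq_or_ne R B with e | hR
  · rw [e, ← Finsupp.single_sub] at h
    norm_num at h
    omega
  · have h3 : (ell (Finsupp.single B (3 : ℤ)) : ℤ) = 2 := by
      rw [ell_eq_of_deg_ge hK (by rw [deg_single_eq hK, hg]; norm_num), deg_single_eq hK, hg]
      norm_num
    have := hF.finiteDimensional_L (Finsupp.single B (3 : ℤ))
    have heq : L (Finsupp.single B (3 : ℤ) - Finsupp.single R 1) = L (Finsupp.single B (3 : ℤ)) := by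
      refine Submodule.eq_of_le_of_finrank_le
        (Groth.FunFld1.L_mono (sub_le_self _ (Finsupp.single_nonneg.2 zero_le_one))) ?_
      change ell _ ≤ ell _
      omega
    have h1 : (1 : K) ∈ L (Finsupp.single B (3 : ℤ)) := fun Q => by
      rw [map_one, ← WithZero.exp_zero, WithZero.exp_le_exp, Finsupp.single_apply]
      split_ifs <;> omega
    rw [← heq] at h1
    have h2 := h1 R
    rw [map_one, ← WithZero.exp_zero, WithZero.exp_le_exp, Finsupp.sub_apply,
      Finsupp.single_eq_same, Finsupp.single_eq_of_ne hR] at h2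
    omega

/-- `h⁰(2A) = 1` forbids `2A ~ P + Q` with `Q ≠ A`. -/
theorem no_pair {A P Q : Place k K} (hA : ell (Finsupp.single A (2 : ℤ)) = 1) (hQ : Q ≠ A)
    (h : 1 ≤ ell (Finsupp.single P (1 : ℤ) + Finsupp.single Q 1 - Finsupp.single A 2)) : False := by
  classical
  have hF := IsFF.of_isFunctionField hK
  set E : Divisor k K := Finsupp.single P (1 : ℤ) + Finsupp.single Q 1 - Finsupp.single A 2 with hEdef
  have hd : E.deg = 0 := by
    rw [hEdef, Groth.FunFld1.deg_sub, Groth.FunFld1.deg_add, deg_single_eq hK, deg_single_eq hK,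
      deg_single_eq hK]
    norm_num
  obtain ⟨x, hx, hxE⟩ := exists_eq_neg_div hK (D := E) (fun e => by
    unfold ell at h
    rw [e, finrank_bot] at h
    omega) hd
  have hdivx : div k x = Finsupp.single A 2 - (Finsupp.single P (1 : ℤ) + Finsupp.single Q 1) := by
    rw [← sub_eq_zero, ← hxE, hEdef]; abel
  have hinv : x⁻¹ ∈ L (Finsupp.single A (2 : ℤ)) := fun R => by
    have h1 := congrArg (fun D : Divisor k K => D R) hdivx
    simp only [hF.div_apply, Finsupp.sub_apply, Finsupp.add_apply] at h1
    rw [val_le_exp_iff R (inv_ne_zero hx), ord_inv, h1]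
    have h2 : 0 ≤ (Finsupp.single P (1 : ℤ) : Divisor k K) R + Finsupp.single Q (1 : ℤ) R :=
      add_nonneg (by rw [Finsupp.single_apply]; split_ifs <;> norm_num)
        (by rw [Finsupp.single_apply]; split_ifs <;> norm_num)
    omega
  have hone : L (Finsupp.single A (2 : ℤ)) = L (0 : Divisor k K) := by
    have := hF.finiteDimensional_L (Finsupp.single A (2 : ℤ))
    refine (Submodule.eq_of_le_of_finrank_le
      (Groth.FunFld1.L_mono (Finsupp.single_nonneg.2 zero_le_two)) ?_).symm
    change ell _ ≤ ell _
    rw [ell_zero_eq hK, hA]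
  rw [hone, L_zero_eq hK, Submodule.mem_one] at hinv
  obtain ⟨c, hc⟩ := hinv
  have h1 := congrArg (fun D : Divisor k K => D Q) hdivx
  simp only [hF.div_apply, Finsupp.sub_apply, Finsupp.add_apply, Finsupp.single_eq_same,
    Finsupp.single_eq_of_ne hQ] at h1
  have h4 : Q.ord x⁻¹ = 0 := by rw [← hc, ord_algebraMap]
  rw [ord_inv, h1, Finsupp.single_apply] at h4
  split_ifs at h4 <;> omega

end GenusTwo

end Groth.Funfld2.Small
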