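import Groth.Agent.Funfld2.Small.ConstField
import Groth.Agent.FunFld1.Rational
import Mathlib.FieldTheory.IsAlgClosed.AlgebraicClosure
import Mathlib.RingTheory.TensorProduct.Free
import Mathlib.LinearAlgebra.Dual.Lemmas

/-! Splitting fields of places. -/

open FunFld Groth.FunFld1
open WithZero (exp)
open scoped TensorProduct

set_option linter.unusedSectionVars false
set_option linter.style.haveILetI false

namespace Groth.Funfld2.Small.Splitting

universe u v

variable {k : Type u} {K : Type v} [Field k] [Field K] [Algebra k K]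

variable {kb : Type u} [Field kb] [Algebra k kb]

/-- The inclusion of a finite level. -/
noncomputable def levelMap (E : IntermediateField k (kb)) :
    E ⊗[k] K →ₐ[k] kb ⊗[k] K :=
  Algebra.TensorProduct.map E.val (AlgHom.id k K)

theorem levelMap_injective (E : IntermediateField k (kb)) :
    Function.Injective (levelMap (K := K) E) :=
  Module.Flat.rTensor_preserves_injective_linearMap (M := K) E.val.toLinearMap E.val.injective

theorem exists_level (t : kb ⊗[k] K) :
    ∃ S : Finset (kb), ∀ E : IntermediateField k (kb),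
      (∀ c ∈ S, c ∈ E) → t ∈ (levelMap (K := K) E).range := by
  classical
  induction t using TensorProduct.induction_on with
  | zero => exact ⟨∅, fun E _ => zero_mem _⟩
  | tmul c a =>
    exact ⟨{c}, fun E hE => ⟨(⟨c, hE c (Finset.mem_singleton_self c)⟩ : E) ⊗ₜ a, by simp [levelMap]⟩⟩
  | add a b ha hb =>
    obtain ⟨S, hS⟩ := ha
    obtain ⟨T, hT⟩ := hb
    exact ⟨S ∪ T, fun E hE => add_mem (hS E fun c hc => hE c (Finset.mem_union_left _ hc))
      (hT E fun c hc => hE c (Finset.mem_union_right _ hc))⟩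

theorem isField_tensor_algebraic [Algebra.IsAlgebraic k kb] (hg : IsGeometric k K) : IsField (kb ⊗[k] K) := by
  classical
  haveI : Nontrivial (kb ⊗[k] K) :=
    (Algebra.TensorProduct.includeRight_injective (R := k) (A := kb) (B := K)
      (algebraMap k (kb)).injective).nontrivial
  refine ⟨⟨0, 1, zero_ne_one⟩, mul_comm, fun {t} ht => ?_⟩
  obtain ⟨S, hS⟩ := exists_level (K := K) t
  let E := IntermediateField.adjoin k (S : Set (kb))
  have hE : FiniteDimensional k E := IntermediateField.finiteDimensional_adjoin fun c _ =>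
    (Algebra.IsAlgebraic.isAlgebraic c).isIntegral
  obtain ⟨s, rfl⟩ := hS E fun c hc => IntermediateField.subset_adjoin k _ (Finset.mem_coe.2 hc)
  have hs : s ≠ 0 := fun h => ht (by rw [h]; exact map_zero (levelMap E))
  obtain ⟨s', hs'⟩ := (hg E hE).mul_inv_cancel hs
  refine ⟨levelMap E s', ?_⟩
  refine ((map_mul (levelMap (K := K) E) s s').symm.trans (congrArg _ hs')).trans ?_
  exact map_one (levelMap (K := K) E).toRingHom

theorem linearIndependent_map {k' kbar : Type u} [Field k'] [Field kbar] [Algebra k k'] [Algebra k kbar]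
    [Algebra k' kbar] (ι : k' →ₐ[k] kbar) (hι : ∀ c, ι c = algebraMap k' kbar c) {n : ℕ}
    {t : Fin n → k' ⊗[k] K} (ht : LinearIndependent k' t) :
    LinearIndependent kbar fun i => Algebra.TensorProduct.map ι (AlgHom.id k K) (t i) := by
  classical
  let bK := Module.Basis.ofVectorSpace k K
  have hrepr : ∀ (s : k' ⊗[k] K) l,
      (Algebra.TensorProduct.basis kbar bK).repr (Algebra.TensorProduct.map ι (AlgHom.id k K) s) l =
        ι ((Algebra.TensorProduct.basis k' bK).repr s l) := by
    intro s l
    induction s using TensorProduct.induction_on with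
    | zero => simp
    | tmul a m => simp
    | add a b ha hb => simp [ha, hb]
  rw [Fintype.linearIndependent_iff] at ht ⊢
  intro c hc i
  refine (Module.forall_dual_apply_eq_zero_iff k' (c i)).1 fun lam => ?_
  refine ht (fun i => lam (c i)) ?_ i
  refine (Algebra.TensorProduct.basis k' bK).repr.injective (Finsupp.ext fun l => ?_)
  have h2 := congrArg (fun w => lam ((Algebra.TensorProduct.basis kbar bK).repr w l)) hc
  simp only [map_sum, map_smul, Finsupp.coe_finsetSum, Finset.sum_apply, Finsupp.smul_apply,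
    smul_eq_mul, hrepr, map_zero, Finsupp.coe_zero, Pi.zero_apply, hι] at h2 ⊢
  rw [← h2]
  refine Finset.sum_congr rfl fun i _ => ?_
  rw [mul_comm (c i), ← Algebra.smul_def, map_smul, smul_eq_mul, mul_comm]

theorem ell_bound_aux {n N d d' : ℕ} {b b' : ℤ} (h1 : (N * d : ℕ) + 1 - b ≤ (n : ℤ))
    (h2 : (n : ℤ) ≤ (N * d' : ℕ) + b') (hN : b + b' < N) : d ≤ d' := by
  by_contra hd
  have : (N * d' : ℕ) + (N : ℤ) ≤ (N * d : ℕ) := by
    exact_mod_cast (Nat.mul_succ N d') ▸ Nat.mul_le_mul_left N (Nat.lt_of_not_le hd)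
  omega

section Lift

variable {E kb : Type u} {L M : Type*} [Field E] [Field kb] [Field L] [Field M] [Algebra E L]
  [Algebra kb M] (j : L →+* M)
  (hjE : ∀ c : E, ∃ d : kb, j (algebraMap E L c) = algebraMap kb M d)
  (hind : ∀ (n : ℕ) (v : Fin n → L), LinearIndependent E v → LinearIndependent kb fun i => j (v i))

include hjE in
theorem exists_restrict (hFE : IsFF E L) (R : Place kb M) {z₀ : L} (hz₀ : 1 < R.1 (j z₀)) :
    ∃ R' : Place E L, ∀ z, R'.1 z ≤ 1 ↔ R.1 (j z) ≤ 1 := by
  obtain ⟨R', hR'⟩ := hFE.exists_place_O_eq (R.O.comap j) (fun c => by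
    obtain ⟨d, hd⟩ := hjE c
    change R.1 (j (algebraMap E L c)) ≤ 1
    rw [hd]; exact R.2.1 _) (fun htop => by
    have : z₀ ∈ R.O.comap j := htop ▸ ValuationSubring.mem_top _
    exact not_le.2 hz₀ this)
  exact ⟨R', fun z => SetLike.ext_iff.1 hR' z⟩

include hjE hind in
theorem exists_place_over (hFE : IsFF E L) (hFb : IsFF kb M) (Q : Place E L) :
    ∃ R : Place kb M, ∀ z, Q.1 z ≤ 1 ↔ R.1 (j z) ≤ 1 := by
  obtain ⟨q, hq1, hqle⟩ := hFE.exists_pole_only Q
  have htq : Transcendental E q := transcendental_of_one_lt_val Q hq1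
  have htr : Transcendental kb (j q) := by
    rw [transcendental_iff]
    intro p hp
    have h1 : LinearIndependent E fun i : Fin (p.natDegree + 1) => q ^ (i : ℕ) := by
      rw [Fintype.linearIndependent_iff]
      intro g hg i
      have h2 : (∑ i : Fin (p.natDegree + 1), Polynomial.C (g i) * Polynomial.X ^ (i : ℕ)) = 0 := by
        refine (transcendental_iff.1 htq) _ ?_
        simpa [Algebra.smul_def] using hg
      have h3 := congrArg (fun f => Polynomial.coeff f (i : ℕ)) h2
      simpa [Polynomial.finsetSum_coeff, Polynomial.coeff_C_mul, Polynomial.coeff_X_pow,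
        Fin.val_inj] using h3
    have h4 := Fintype.linearIndependent_iff.1 (hind _ _ h1) (fun i => p.coeff i) (by
      simp only [map_pow, Algebra.smul_def]
      rw [Fin.sum_univ_eq_sum_range (fun i => algebraMap kb M (p.coeff i) * j q ^ i)]
      rw [Polynomial.aeval_eq_sum_range] at hp
      simpa [Algebra.smul_def] using hp)
    ext i
    rcases lt_or_ge p.natDegree i with hi | hi
    · rw [Polynomial.coeff_eq_zero_of_natDegree_lt hi, Polynomial.coeff_zero]
    · simpa using h4 ⟨i, by omega⟩
  obtain ⟨R, hR⟩ := hFb.exists_zero_place (IsFF.transcendental_inv htr)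
  have hR1 : 1 < R.1 (j q) := by
    rw [map_inv₀] at hR
    rcases inv_lt_one_iff₀.1 hR with h | h
    · exact absurd (le_zero_iff.1 h) (by
        rw [map_eq_zero]
        exact fun h0 => htr (h0 ▸ isAlgebraic_zero))
    · exact h
  obtain ⟨R', hR'⟩ := exists_restrict j hjE hFE R hR1
  have hRQ : R' = Q := by
    by_contra hne
    exact not_le.2 hR1 ((hR' q).1 (hqle R' hne))
  exact ⟨R, hRQ ▸ hR'⟩

include hjE hind in
/-- A place with a parameter and an isolating element defined below has no larger degree. -/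
theorem deg_le_of_lift (hFE : IsFF E L) (hFb : IsFF kb M) (Q : Place E L) (R : Place kb M)
    (hQR : ∀ z, Q.1 z ≤ 1 ↔ R.1 (j z) ≤ 1) {t : L} (ht : R.1 (j t) = exp (-1 : ℤ))
    {w : L} (hw : 1 < R.1 (j w)) (hwo : ∀ R₂ : Place kb M, R₂ ≠ R → R₂.1 (j w) ≤ 1) :
    Q.deg ≤ R.deg := by
  classical
  have hlt : ∀ z, Q.1 z < 1 → R.1 (j z) < 1 := fun z hz => by
    rcases eq_or_ne z 0 with rfl | hz0
    · simp
    refine not_le.1 fun hge => ?_
    have := (hQR z⁻¹).2 (by rw [map_inv₀ j, map_inv₀]; exact inv_le_one_of_one_le₀ hge)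
    rw [map_inv₀, inv_le_one₀ (zero_lt_iff.2 ((Valuation.ne_zero_iff _).2 hz0))] at this
    exact not_le.2 hz this
  have hone : ∀ z, Q.1 z = 1 → R.1 (j z) = 1 := fun z hz => by
    refine le_antisymm ((hQR z).1 hz.le) ?_
    have := (hQR z⁻¹).1 (by rw [map_inv₀, hz, inv_one])
    rw [map_inv₀ j, map_inv₀] at this
    have hz0 : j z ≠ 0 := by
      rw [map_ne_zero]; intro h0; rw [h0, map_zero] at hz; exact zero_ne_one hz
    rwa [inv_le_one₀ (zero_lt_iff.2 ((Valuation.ne_zero_iff _).2 hz0))] at this
  obtain ⟨s, hs0, hs⟩ := exists_uniformizer Q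
  have hjs0 : j s ≠ 0 := by rw [map_ne_zero]; exact hs0
  set m := R.ord (j s)
  have hkey : ∀ z : L, z ≠ 0 → R.1 (j z) = exp (-(m * Q.ord z)) := by
    intro z hz
    have h1 : Q.1 (z * s ^ (-Q.ord z)) = 1 := by
      rw [map_mul, map_zpow₀, hs, val_eq_exp_neg_ord Q hz, ← WithZero.exp_zsmul, ← WithZero.exp_add,
        ← WithZero.exp_zero]
      congr 1
      simp only [smul_eq_mul]
      ring
    have h2 := hone _ h1
    rw [map_mul, map_zpow₀, map_mul, map_zpow₀, val_eq_exp_neg_ord R hjs0, ← WithZero.exp_zsmul] at h2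
    rw [(eq_mul_inv_iff_mul_eq₀ WithZero.exp_ne_zero).mpr h2, one_mul, ← WithZero.exp_neg]
    congr 1
    simp only [smul_eq_mul]
    ring
  have hm : m = 1 := by
    have hm0 : 0 < m := by
      have h3 := hlt s (by rw [hs, ← WithZero.exp_zero, WithZero.exp_lt_exp]; norm_num)
      rw [val_eq_exp_neg_ord R hjs0, ← WithZero.exp_zero, WithZero.exp_lt_exp] at h3
      omega
    have h4 := ht
    rw [hkey t (fun h0 => by rw [h0, map_zero, map_zero] at h4; exact WithZero.exp_ne_zero h4.symm),
      WithZero.exp_inj, neg_inj] at h4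
    exact Int.eq_one_of_mul_eq_one_right hm0.le h4
  have huniq : ∀ R₂ : Place kb M, R₂ ≠ R → ∀ z,
      (∀ Q' : Place E L, Q' ≠ Q → Q'.1 z ≤ 1) → R₂.1 (j z) ≤ 1 := by
    intro R₂ hne z hz
    by_contra hcon
    obtain ⟨Q', hQ'⟩ := exists_restrict j hjE hFE R₂ (not_le.1 hcon)
    have hQQ : Q' = Q := by
      by_contra hQne
      exact hcon ((hQ' z).1 (hz Q' hQne))
    subst hQQ
    have h5 : ¬ R.1 (j w) ≤ 1 := not_le.2 hw
    rw [← hQR, hQ'] at h5
    exact h5 (hwo R₂ hne)
  obtain ⟨b, hb⟩ := hFE.exists_delta_le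
  haveI := hFb.finiteDimensional_L (0 : Divisor kb M)
  set b' : ℤ := (ell (0 : Divisor kb M) : ℤ)
  set N : ℕ := (b + b').toNat + 1
  haveI := hFE.finiteDimensional_L (Finsupp.single Q (N : ℤ))
  haveI := hFb.finiteDimensional_L (Finsupp.single R (N : ℤ))
  have h1 := hb (Finsupp.single Q (N : ℤ))
  rw [delta, deg_single] at h1
  have h2 : ell (Finsupp.single Q (N : ℤ)) ≤ ell (Finsupp.single R (N : ℤ)) := by
    let B := Module.finBasis E (FunFld.L (Finsupp.single Q (N : ℤ)))
    have hB : LinearIndependent E fun i => (B i : L) :=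
      LinearIndependent.map' B.linearIndependent (FunFld.L (Finsupp.single Q (N : ℤ))).subtype (by simp)
    have hmem : ∀ i, j (B i : L) ∈ FunFld.L (Finsupp.single R (N : ℤ)) := fun i R₂ => by
      rcases eq_or_ne R₂ R with rfl | hne
      · rw [Finsupp.single_eq_same]
        rcases eq_or_ne (B i : L) 0 with h0 | h0
        · rw [h0, map_zero, map_zero]; exact zero_le
        have h6 := (B i).2 Q
        rw [Finsupp.single_eq_same, val_eq_exp_neg_ord Q h0, WithZero.exp_le_exp] at h6
        rw [hkey _ h0, hm, one_mul, WithZero.exp_le_exp]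
        exact h6
      · rw [Finsupp.single_eq_of_ne hne, WithZero.exp_zero]
        refine huniq R₂ hne _ fun Q' hQ' => ?_
        have h6 := (B i).2 Q'
        rwa [Finsupp.single_eq_of_ne hQ', WithZero.exp_zero] at h6
    have hind3 : LinearIndependent kb (fun i => (⟨_, hmem i⟩ : FunFld.L (Finsupp.single R (N : ℤ)))) :=
      LinearIndependent.of_comp (FunFld.L (Finsupp.single R (N : ℤ))).subtype (hind _ _ hB)
    have := hind3.fintype_card_le_finrank
    rw [Fintype.card_fin] at this
    exact this
  have h3 : (ell (Finsupp.single R (N : ℤ)) : ℤ) ≤ (N * R.deg : ℕ) + b' := by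
    have := hFb.ell_le_of_nonneg (Finsupp.single_nonneg.2 (Int.natCast_nonneg N) :
      (0 : Divisor kb M) ≤ Finsupp.single R (N : ℤ))
    rw [deg_single] at this
    push_cast
    exact this
  refine ell_bound_aux (n := ell (Finsupp.single Q (N : ℤ))) (N := N) (b := b) (b' := b')
    ?_ ?_ (by omega)
  · push_cast
    omega
  · omega

include hjE hind in
theorem deg_eq_one_of_lift [IsAlgClosed kb] (hFE : IsFF E L) (hFb : IsFF kb M) (Q : Place E L)
    (R : Place kb M) (hQR : ∀ z, Q.1 z ≤ 1 ↔ R.1 (j z) ≤ 1) {t : L} (ht : R.1 (j t) = exp (-1 : ℤ))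
    {w : L} (hw : 1 < R.1 (j w)) (hwo : ∀ R₂ : Place kb M, R₂ ≠ R → R₂.1 (j w) ≤ 1) :
    Q.deg = 1 :=
  le_antisymm ((deg_le_of_lift j hjE hind hFE hFb Q R hQR ht hw hwo).trans_eq
    (deg_eq_one_of_isAlgClosed hFb R)) (hFE.deg_pos Q)

end Lift

/-- The constant extension `kb ⊗ K` in the form used by the statements. -/
theorem bijective_productMap_tensor [Algebra K (kb ⊗[k] K)] [IsScalarTower k K (kb ⊗[k] K)]
    (hinc : ∀ a : K, algebraMap K (kb ⊗[k] K) a = (1 : kb) ⊗ₜ[k] a) :
    Function.Bijective (Algebra.TensorProduct.productMap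
      (IsScalarTower.toAlgHom k kb (kb ⊗[k] K)) (IsScalarTower.toAlgHom k K (kb ⊗[k] K))) := by
  have e : ∀ t, Algebra.TensorProduct.productMap
      (IsScalarTower.toAlgHom k kb (kb ⊗[k] K)) (IsScalarTower.toAlgHom k K (kb ⊗[k] K)) t = t := by
    intro t
    induction t using TensorProduct.induction_on with
    | zero => simp
    | tmul c a =>
      rw [Algebra.TensorProduct.productMap_apply_tmul, IsScalarTower.toAlgHom_apply,
        IsScalarTower.toAlgHom_apply, hinc, Algebra.TensorProduct.algebraMap_apply]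
      simp
    | add a b ha hb => rw [map_add, ha, hb]
  exact ⟨fun a b h => by rwa [e, e] at h, fun t => ⟨t, e t⟩⟩

/-- A finite level embeds into `kb ⊗ K`. -/
theorem exists_embedding (E : IntermediateField k kb) {K' : Type*} [Field K'] [Algebra K K']
    [Algebra E K'] [Algebra k K'] [IsScalarTower k E K'] [IsScalarTower k K K']
    (hK' : Function.Bijective (Algebra.TensorProduct.productMap
      (IsScalarTower.toAlgHom k E K') (IsScalarTower.toAlgHom k K K'))) :
    ∃ j : K' →+* kb ⊗[k] K, (∀ a : K, j (algebraMap K K' a) = (1 : kb) ⊗ₜ[k] a) ∧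
      (∀ c : E, j (algebraMap E K' c) = algebraMap kb (kb ⊗[k] K) c) ∧
      (∀ (n : ℕ) (v : Fin n → K'), LinearIndependent E v → LinearIndependent kb fun i => j (v i)) ∧
      ∀ s ∈ (levelMap (K := K) E).range, ∃ z, j z = s := by
  let e := AlgEquiv.ofBijective _ hK'
  let j : K' →ₐ[k] kb ⊗[k] K := (levelMap E).comp e.symm.toAlgHom
  refine ⟨j.toRingHom, fun a => ?_, fun c => ?_, fun n v hv => ?_, ?_⟩
  · have he : e.symm (algebraMap K K' a) = (1 : E) ⊗ₜ a := by
      rw [AlgEquiv.symm_apply_eq]; simp [e]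
    change levelMap E (e.symm (algebraMap K K' a)) = _
    rw [he]
    simp [levelMap]
  · have he : e.symm (algebraMap E K' c) = c ⊗ₜ (1 : K) := by
      rw [AlgEquiv.symm_apply_eq]; simp [e]
    change levelMap E (e.symm (algebraMap E K' c)) = _
    rw [he]
    rfl
  · let eE : (E ⊗[k] K) →ₗ[E] K' :=
      { toFun := e
        map_add' := map_add e
        map_smul' := fun c y => by
          rw [RingHom.id_apply]
          induction y using TensorProduct.induction_on with
          | zero => simp
          | tmul a b =>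
            rw [TensorProduct.smul_tmul']
            simp only [e, AlgEquiv.coe_ofBijective, Algebra.TensorProduct.productMap_apply_tmul,
              smul_eq_mul, map_mul, Algebra.smul_def, mul_assoc]
            rfl
          | add a b ha hb => rw [smul_add, map_add, ha, hb, map_add, smul_add] }
    have hind1 : LinearIndependent E fun i => e.symm (v i) := by
      refine LinearIndependent.of_comp eE ?_
      have : (eE ∘ fun i => e.symm (v i)) = v := by
        funext i; exact e.apply_symm_apply _
      rwa [this]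
    exact linearIndependent_map (kbar := kb) E.val (fun c => rfl) hind1
  · rintro _ ⟨s, rfl⟩
    refine ⟨e s, ?_⟩
    change levelMap E (e.symm (e s)) = levelMap E s
    rw [e.symm_apply_apply]

set_option maxHeartbeats 1600000 in
/-- A finite extension of the constants splitting `P`. -/
theorem exists_splitting (hK : IsFunctionField k K) (hg : IsGeometric k K) (P : Place k K) :
    ∃ k' : IntermediateField k (AlgebraicClosure k), FiniteDimensional k k' ∧
      ∀ (K' : Type v) [Field K'] [Algebra K K'] [Algebra k' K'] [Algebra k K']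
        [IsScalarTower k k' K'] [IsScalarTower k K K'],
        Function.Bijective (Algebra.TensorProduct.productMap
          (IsScalarTower.toAlgHom k k' K') (IsScalarTower.toAlgHom k K K')) →
        ∀ Q : Place k' K', (∀ z : K, 1 < P.1 z → 1 < Q.1 (algebraMap K K' z)) → Q.deg = 1 := by
  classical
  have hF := IsFF.of_isFunctionField hK
  letI : Field (AlgebraicClosure k ⊗[k] K) := (isField_tensor_algebraic (kb := AlgebraicClosure k) hg).toField
  letI : Algebra K (AlgebraicClosure k ⊗[k] K) :=
    (Algebra.TensorProduct.includeRight : K →ₐ[k] AlgebraicClosure k ⊗[k] K).toRingHom.toAlgebra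
  haveI : IsScalarTower k K (AlgebraicClosure k ⊗[k] K) :=
    IsScalarTower.of_algebraMap_eq fun c => ((Algebra.TensorProduct.includeRight :
      K →ₐ[k] AlgebraicClosure k ⊗[k] K).commutes c).symm
  have hbij := bijective_productMap_tensor (k := k) (K := K) (kb := AlgebraicClosure k) fun _ => rfl
  have hFb : IsFF (AlgebraicClosure k) (AlgebraicClosure k ⊗[k] K) := ConstField.isFF_bar hbij hF
  obtain ⟨x, hx1, -⟩ := hF.exists_pole_only P
  set xb := algebraMap K (AlgebraicClosure k ⊗[k] K) x
  have hfinS : {R : Place (AlgebraicClosure k) (AlgebraicClosure k ⊗[k] K) | 1 < R.1 xb}.Finite :=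
    (hFb.finite_support_ord xb).subset fun R hR => by
      have := (one_lt_val_iff R xb).1 hR
      simp only [Function.mem_support]
      omega
  choose t ht using fun R : Place (AlgebraicClosure k) (AlgebraicClosure k ⊗[k] K) => exists_val_eq_exp R (-1)
  choose w hw hwo using fun R : Place (AlgebraicClosure k) (AlgebraicClosure k ⊗[k] K) => hFb.exists_pole_only R
  choose St hSt using fun R => exists_level (K := K) (t R)
  choose Sw hSw using fun R => exists_level (K := K) (w R)
  set S := hfinS.toFinset.biUnion fun R => St R ∪ Sw R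
  suffices H : ∀ E : IntermediateField k (AlgebraicClosure k), (∀ c ∈ S, c ∈ E) →
      FiniteDimensional k E → ∀ (K' : Type v) [Field K'] [Algebra K K'] [Algebra E K'] [Algebra k K']
        [IsScalarTower k E K'] [IsScalarTower k K K'],
        Function.Bijective (Algebra.TensorProduct.productMap
          (IsScalarTower.toAlgHom k E K') (IsScalarTower.toAlgHom k K K')) →
        ∀ Q : Place E K', (∀ z : K, 1 < P.1 z → 1 < Q.1 (algebraMap K K' z)) → Q.deg = 1 by
    have hfin : FiniteDimensional k (IntermediateField.adjoin k (S : Set (AlgebraicClosure k))) :=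
      IntermediateField.finiteDimensional_adjoin fun c _ =>
        (Algebra.IsAlgebraic.isAlgebraic c).isIntegral
    exact ⟨_, hfin, H _ (fun c hc => IntermediateField.subset_adjoin k _ (Finset.mem_coe.2 hc)) hfin⟩
  intro E hSE hEfin K' _ _ _ _ _ _ hK' Q hQ
  obtain ⟨j, hjK, hjE', hind, hpre⟩ := exists_embedding E hK'
  have hjE : ∀ c : E, ∃ d : AlgebraicClosure k, j (algebraMap E K' c) = algebraMap _ _ d :=
    fun c => ⟨_, hjE' c⟩
  have hFE : IsFF E K' := ConstField.isFF_bar hK' hF
  obtain ⟨R, hQR⟩ := exists_place_over j hjE hind hFE hFb Q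
  have hRS : R ∈ hfinS.toFinset := by
    rw [Set.Finite.mem_toFinset]
    show 1 < R.1 xb
    rw [← not_le, show xb = j (algebraMap K K' x) from (hjK x).symm, ← hQR, not_le]
    exact hQ x hx1
  have hlevel : ∀ c ∈ St R ∪ Sw R, c ∈ E := fun c hc =>
    hSE c (Finset.mem_biUnion.2 ⟨R, hRS, hc⟩)
  obtain ⟨t', ht'⟩ := hpre _ (hSt R E fun c hc => hlevel c (Finset.mem_union_left _ hc))
  obtain ⟨w', hw'⟩ := hpre _ (hSw R E fun c hc => hlevel c (Finset.mem_union_right _ hc))
  refine deg_eq_one_of_lift j hjE hind hFE hFb Q R hQR (t := t') ?_ (w := w') ?_ ?_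
  · rw [ht']; exact ht R
  · rw [hw']; exact hw R
  · intro R₂ hne
    rw [hw']; exact hwo R R₂ hne

end Groth.Funfld2.Small.Splitting
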