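import Groth.Agent.FunFld1.ConstComp
import Groth.Agent.FunFld1.IntClosure
import Mathlib.RingTheory.TensorProduct.Free

/-! Nonsingularity in towers of constant field extensions. -/

open FunFld Groth.FunFld1
open WithZero (exp)
open scoped TensorProduct

set_option linter.unusedSectionVars false

namespace Groth.Funfld2.Small.Tower

universe u

section Integral

variable {k K L : Type*} [Field k] [Field K] [Field L] [Algebra k K] [Algebra K L] [Algebra k L]
  [IsScalarTower k K L] [FiniteDimensional K L]

theorem mem_integralClosure_image (hF : IsFF k K) (P : Place k K) (z : L) :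
    z ∈ integralClosure (P.O.toSubring.map (algebraMap K L)) L ↔
      ∀ R : Place k L, IsOver R P → R.1 z ≤ 1 := by
  let T := P.O.toSubring.map (algebraMap K L)
  letI : Algebra P.O L := ((algebraMap K L).comp P.O.subtype).toAlgebra
  haveI : IsScalarTower P.O K L := IsScalarTower.of_algebraMap_eq fun _ => rfl
  letI : Algebra P.O T := (((algebraMap K L).comp P.O.subtype).codRestrict T
    fun a => (Subring.mem_map (f := algebraMap K L)).2 ⟨a.1, a.2, rfl⟩).toAlgebra
  haveI : IsScalarTower P.O T L := IsScalarTower.of_algebraMap_eq fun _ => rfl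
  haveI : Algebra.IsIntegral P.O T := ⟨fun t => by
    obtain ⟨a, ha, hat⟩ := t.2
    have : t = algebraMap P.O T ⟨a, ha⟩ := Subtype.ext hat.symm
    rw [this]
    exact isIntegral_algebraMap⟩
  rw [← hF.mem_integralClosure_iff (K' := L) P z]
  exact ⟨fun h => isIntegral_trans (R := P.O) z h, fun h => IsIntegral.tower_top (A := T) h⟩

end Integral

section Coords

variable {k' k'' : Type u} {K' K'' : Type*} [Field k'] [Field k''] [Field K'] [Field K'']
  [Algebra k' k''] [FiniteDimensional k' k''] [Algebra k' K'] [Algebra K' K''] [Algebra k'' K'']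
  [Algebra k' K''] [IsScalarTower k' k'' K''] [IsScalarTower k' K' K'']
  (h2 : Function.Bijective (Algebra.TensorProduct.productMap
    (IsScalarTower.toAlgHom k' k'' K'') (IsScalarTower.toAlgHom k' K' K'')))

include h2

theorem exists_const_basis :
    ∃ (n : ℕ) (e : Module.Basis (Fin n) k' k'') (b : Module.Basis (Fin n) K' K''),
      ∀ i, b i = algebraMap k'' K'' (e i) := by
  let g : K' ⊗[k'] k'' →ₐ[K'] K'' :=
    Algebra.TensorProduct.lift (Algebra.ofId K' K'') (IsScalarTower.toAlgHom k' k'' K'')
      fun _ _ => Commute.all _ _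
  have hfun : ⇑g = ⇑(Algebra.TensorProduct.productMap (IsScalarTower.toAlgHom k' k'' K'')
      (IsScalarTower.toAlgHom k' K' K'')) ∘ ⇑(Algebra.TensorProduct.comm k' K' k'') := by
    funext t
    induction t using TensorProduct.induction_on with
    | zero => simp
    | tmul a b => simp [g, mul_comm, Algebra.ofId_apply]
    | add a b ha hb => simp only [map_add, Function.comp_apply] at ha hb ⊢; rw [ha, hb]
  have hg : Function.Bijective g.toLinearMap := by
    show Function.Bijective g
    rw [hfun]
    exact h2.comp (Algebra.TensorProduct.comm k' K' k'').bijective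
  let e := Module.finBasis k' k''
  refine ⟨_, e, ((Algebra.TensorProduct.basis K' e).map (LinearEquiv.ofBijective g.toLinearMap hg)),
    fun i => ?_⟩
  simp [g]

variable {n : ℕ} {e : Module.Basis (Fin n) k' k''} {b : Module.Basis (Fin n) K' K''}
  (hb : ∀ i, b i = algebraMap k'' K'' (e i))

omit h2
include hb

theorem repr_const (c : k'') (i : Fin n) :
    b.repr (algebraMap k'' K'' c) i = algebraMap k' K' (e.repr c i) := by
  have : algebraMap k'' K'' c = ∑ j, algebraMap k' K' (e.repr c j) • b j := by
    conv_lhs => rw [← e.sum_repr c]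
    rw [map_sum]
    refine Finset.sum_congr rfl fun j _ => ?_
    rw [hb, Algebra.smul_def, Algebra.smul_def, map_mul, ← IsScalarTower.algebraMap_apply,
      ← IsScalarTower.algebraMap_apply]
  rw [this, b.repr_sum_self]

/-- Coordinates of `T[k'']` lie in any subring containing `k'` whose image contains `T`. -/
theorem coords_of_mem_adjoin (S : Subring K') (hk : ∀ c : k', algebraMap k' K' c ∈ S)
    (T : Subring K'') (hT : ∀ t ∈ T, ∃ s ∈ S, algebraMap K' K'' s = t) {z : K''}
    (hz : z ∈ Algebra.adjoin T (Set.range (algebraMap k'' K''))) : ∀ i, b.repr z i ∈ S := by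
  induction hz using Algebra.adjoin_induction with
  | mem x hx =>
    obtain ⟨c, rfl⟩ := hx
    intro i
    rw [repr_const hb]
    exact hk _
  | algebraMap t =>
    intro i
    obtain ⟨s, hs, hst⟩ := hT t.1 t.2
    rw [show algebraMap T K'' t = s • (1 : K'') by rw [Algebra.smul_def, mul_one, hst]; rfl,
      map_smul, Finsupp.smul_apply, smul_eq_mul, ← map_one (algebraMap k'' K''), repr_const hb]
    exact mul_mem hs (hk _)
  | add x y _ _ hx hy =>
    intro i
    rw [map_add, Finsupp.add_apply]
    exact add_mem (hx i) (hy i)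
  | mul x y _ _ hx hy =>
    intro i
    rw [← b.sum_repr x, ← b.sum_repr y, Finset.sum_mul_sum]
    simp only [map_sum, Finsupp.coe_finsetSum, Finset.sum_apply]
    refine sum_mem fun a _ => sum_mem fun c _ => ?_
    rw [show b.repr x a • b a * b.repr y c • b c =
      (b.repr x a * b.repr y c) • algebraMap k'' K'' (e a * e c) by
        rw [map_mul, ← hb, ← hb, smul_mul_smul_comm], map_smul, Finsupp.smul_apply, smul_eq_mul,
      repr_const hb]
    exact mul_mem (mul_mem (hx a) (hy c)) (hk _)

theorem mem_adjoin_of_coords (T : Subring K'') {z : K''}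
    (hz : ∀ i, algebraMap K' K'' (b.repr z i) ∈ Algebra.adjoin T (Set.range (algebraMap k'' K''))) :
    z ∈ Algebra.adjoin T (Set.range (algebraMap k'' K'')) := by
  rw [← b.sum_repr z]
  refine sum_mem fun i _ => ?_
  rw [Algebra.smul_def, hb]
  exact mul_mem (hz i) (Algebra.subset_adjoin ⟨_, rfl⟩)

end Coords

variable {k k' k'' : Type u} {K K' K'' : Type*} [Field k] [Field k'] [Field k''] [Field K] [Field K']
  [Field K''] [Algebra k k'] [Algebra k' k''] [Algebra k k''] [IsScalarTower k k' k'']
  [FiniteDimensional k k'] [FiniteDimensional k' k'']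
  [Algebra k K] [Algebra K K'] [Algebra k' K'] [Algebra k K'] [IsScalarTower k k' K']
  [IsScalarTower k K K'] [Algebra K' K''] [Algebra k'' K''] [Algebra k' K''] [Algebra k K'']
  [Algebra K K''] [IsScalarTower k' k'' K''] [IsScalarTower k' K' K''] [IsScalarTower K K' K'']
  [IsScalarTower k K K'']
  (h1 : Function.Bijective (Algebra.TensorProduct.productMap
    (IsScalarTower.toAlgHom k k' K') (IsScalarTower.toAlgHom k K K')))
  (h2 : Function.Bijective (Algebra.TensorProduct.productMap
    (IsScalarTower.toAlgHom k' k'' K'') (IsScalarTower.toAlgHom k' K' K'')))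

include h1 h2

theorem nonsingular_tower (hF : IsFF k K) (P : Place k K) :
    (integralClosure (P.O.toSubring.map (algebraMap K K'')) K'' =
        Algebra.adjoin (P.O.toSubring.map (algebraMap K K'')) (Set.range (algebraMap k'' K''))) ↔
      (integralClosure (P.O.toSubring.map (algebraMap K K')) K' =
          Algebra.adjoin (P.O.toSubring.map (algebraMap K K')) (Set.range (algebraMap k' K')) ∧
        ∀ Q : Place k K', IsOver Q P →
          integralClosure (Q.O.toSubring.map (algebraMap K' K'')) K'' =
            Algebra.adjoin (Q.O.toSubring.map (algebraMap K' K'')) (Set.range (algebraMap k'' K''))) := by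
  classical
  haveI := finiteDimensional_of_tensor h1
  haveI := finiteDimensional_of_tensor h2
  haveI : FiniteDimensional K K'' := Module.Finite.trans K' K''
  haveI : IsScalarTower k K' K'' := IsScalarTower.of_algebraMap_eq fun c => by
    rw [IsScalarTower.algebraMap_apply k K K'', IsScalarTower.algebraMap_apply K K' K'',
      ← IsScalarTower.algebraMap_apply k K K']
  have hF' : IsFF k K' := hF.ext
  obtain ⟨n, e, b, hb⟩ := exists_const_basis h2
  set T' := P.O.toSubring.map (algebraMap K K')
  set T := P.O.toSubring.map (algebraMap K K'') with hTdef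
  set A1 := Algebra.adjoin T' (Set.range (algebraMap k' K'))
  set A2 := Algebra.adjoin T (Set.range (algebraMap k'' K'')) with hA2
  have hk1 : ∀ c : k', algebraMap k' K' c ∈ A1.toSubring := fun c => Algebra.subset_adjoin ⟨c, rfl⟩
  have hcoord : ∀ z ∈ A2, ∀ i, b.repr z i ∈ A1.toSubring := fun z hz =>
    coords_of_mem_adjoin hb A1.toSubring hk1 T (fun t ht => by
      obtain ⟨a, ha, rfl⟩ := ht
      exact ⟨algebraMap K K' a, A1.algebraMap_mem ⟨_, a, ha, rfl⟩,
        (IsScalarTower.algebraMap_apply K K' K'' a).symm⟩) hz
  have himage : ∀ s ∈ A1, algebraMap K' K'' s ∈ A2 := fun s hs => by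
    induction hs using Algebra.adjoin_induction with
    | mem x hx =>
      obtain ⟨c, rfl⟩ := hx
      refine Algebra.subset_adjoin ⟨algebraMap k' k'' c, ?_⟩
      rw [← IsScalarTower.algebraMap_apply, ← IsScalarTower.algebraMap_apply]
    | algebraMap t =>
      obtain ⟨a, ha, hat⟩ := t.2
      rw [show algebraMap T' K' t = algebraMap K K' a from hat.symm, ← IsScalarTower.algebraMap_apply]
      exact A2.algebraMap_mem ⟨_, a, ha, rfl⟩
    | add x y _ _ hx hy => rw [map_add]; exact add_mem hx hy
    | mul x y _ _ hx hy => rw [map_mul]; exact mul_mem hx hy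
  have hA2mem : ∀ z, z ∈ A2 ↔ ∀ i, b.repr z i ∈ A1 := fun z =>
    ⟨fun hz i => hcoord z hz i, fun h => mem_adjoin_of_coords hb T fun i => himage _ (h i)⟩
  have hkQ : ∀ (Q : Place k K') (c : k'), Q.1 (algebraMap k' K' c) ≤ 1 := fun Q c =>
    not_lt.1 fun hc => transcendental_of_one_lt_val Q hc ((Algebra.IsAlgebraic.isAlgebraic c).algebraMap)
  have hkR : ∀ (R : Place k K'') (c : k''), R.1 (algebraMap k'' K'' c) ≤ 1 := by
    haveI : FiniteDimensional k k'' := Module.Finite.trans k' k''
    haveI : IsScalarTower k k'' K'' := IsScalarTower.of_algebraMap_eq fun c => by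
      rw [IsScalarTower.algebraMap_apply k K' K'', IsScalarTower.algebraMap_apply k k' K',
        ← IsScalarTower.algebraMap_apply k' K' K'', IsScalarTower.algebraMap_apply k' k'' K'',
        ← IsScalarTower.algebraMap_apply k k' k'']
    exact fun R c =>
      not_lt.1 fun hc => transcendental_of_one_lt_val R hc ((Algebra.IsAlgebraic.isAlgebraic c).algebraMap)
  have hA2le : ∀ z ∈ A2, ∀ R : Place k K'', IsOver R P → R.1 z ≤ 1 := fun z hz R hR => by
    induction hz using Algebra.adjoin_induction with
    | mem x hx => obtain ⟨c, rfl⟩ := hx; exact hkR R c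
    | algebraMap t =>
      obtain ⟨a, ha, hat⟩ := t.2
      rw [show algebraMap T K'' t = algebraMap K K'' a from hat.symm]
      exact (over_le_one_iff hR a).2 ha
    | add x y _ _ hx hy => exact Valuation.map_add_le _ hx hy
    | mul x y _ _ hx hy => rw [map_mul]; exact mul_le_one' hx hy
  have hA1le : ∀ z ∈ A1, ∀ Q : Place k K', IsOver Q P → Q.1 z ≤ 1 := fun z hz Q hQ => by
    induction hz using Algebra.adjoin_induction with
    | mem x hx => obtain ⟨c, rfl⟩ := hx; exact hkQ Q c
    | algebraMap t =>
      obtain ⟨a, ha, hat⟩ := t.2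
      rw [show algebraMap T' K' t = algebraMap K K' a from hat.symm]
      exact (over_le_one_iff hQ a).2 ha
    | add x y _ _ hx hy => exact Valuation.map_add_le _ hx hy
    | mul x y _ _ hx hy => rw [map_mul]; exact mul_le_one' hx hy
  -- places of `K''` over `P` and over some `Q`
  have hover : ∀ (R : Place k K'') (Q : Place k K'), IsOver R Q → (IsOver Q P ↔ IsOver R P) := by
    intro R Q hRQ
    obtain ⟨P', hP'⟩ := hF.exists_isOver Q
    have hle : ∀ x : K, Q.1 (algebraMap K K' x) ≤ 1 ↔ R.1 (algebraMap K K'' x) ≤ 1 := fun x => by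
      rw [IsScalarTower.algebraMap_apply K K' K'', over_le_one_iff hRQ]
    constructor
    · intro h
      obtain ⟨P'', hP''⟩ := hF.exists_isOver R
      exact isOver_of_le_one hP'' fun x hx => (hle x).1 ((over_le_one_iff h x).2 hx)
    · intro h
      exact isOver_of_le_one hP' fun x hx => (hle x).2 ((over_le_one_iff h x).2 hx)
  constructor
  · intro hC2
    have hC1 : ∀ z, (∀ Q : Place k K', IsOver Q P → Q.1 z ≤ 1) → z ∈ A1 := by
      intro z hz
      have hz2 : algebraMap K' K'' z ∈ A2 := by
        rw [← hC2, mem_integralClosure_image hF]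
        intro R hR
        obtain ⟨Q, hQ⟩ := hF'.exists_isOver R
        exact (over_le_one_iff hQ z).2 (hz Q ((hover R Q hQ).2 hR))
      obtain ⟨j, hj⟩ : ∃ j, e.repr 1 j ≠ 0 := by
        by_contra! hall
        exact one_ne_zero (e.repr.injective (Finsupp.ext fun j => by simpa using hall j))
      have h3 := (hA2mem _).1 hz2 j
      rw [show algebraMap K' K'' z = z • algebraMap k'' K'' 1 by rw [map_one, Algebra.smul_def, mul_one],
        map_smul, Finsupp.smul_apply, smul_eq_mul, repr_const hb] at h3
      have := mul_mem h3 (hk1 (e.repr 1 j)⁻¹)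
      rwa [mul_assoc, ← map_mul, mul_inv_cancel₀ hj, map_one, mul_one] at this
    refine ⟨SetLike.ext fun z => ⟨fun hz => hC1 z ((mem_integralClosure_image hF P z).1 hz),
      fun hz => (mem_integralClosure_image hF P z).2 (hA1le z hz)⟩, fun Q hQP => SetLike.ext fun z => ?_⟩
    constructor
    · intro hz
      rw [mem_integralClosure_image hF'] at hz
      refine mem_adjoin_of_coords hb _ fun i => Subalgebra.algebraMap_mem _
        (⟨_, b.repr z i, ?_, rfl⟩ : Q.O.toSubring.map (algebraMap K' K''))
      change Q.1 (b.repr z i) ≤ 1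
      -- an element which is a unit at `Q` and kills the poles elsewhere
      let Rs : Finset (Place k K'') := hF.above P
      let m : Place k K' → ℤ := fun Q' =>
        if Q' = Q then 0 else -(((Rs.sup fun R => (-(R.ord z)).toNat) : ℕ) : ℤ)
      obtain ⟨s, hs⟩ := exists_val_eq (hF.above P) m
      have hsQ : Q.1 s = 1 := by
        rw [hs Q (hF.mem_above.2 hQP)]; simp [m]
      have h4 : algebraMap K' K'' s * z ∈ A2 := by
        rw [← hC2, mem_integralClosure_image hF]
        intro R hR
        obtain ⟨Q', hQ'⟩ := hF'.exists_isOver R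
        have hQ'P := (hover R Q' hQ').2 hR
        have hs' := hs Q' (hF.mem_above.2 hQ'P)
        obtain ⟨e', he'⟩ := hQ'
        rw [map_mul, he', hs']
        by_cases hQQ : Q' = Q
        · subst hQQ
          simp only [m, if_true, WithZero.exp_zero, one_pow, one_mul]
          exact hz R ⟨e', he'⟩
        · rcases eq_or_ne z 0 with rfl | hz0
          · simp
          have he0 := overWith_pos he'
          have hsup := Finset.le_sup (f := fun R : Place k K'' => (-(R.ord z)).toNat)
            (show R ∈ Rs from hF.mem_above.2 hR)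
          simp only [m, if_neg hQQ]
          rw [val_eq_exp_neg_ord R hz0, ← WithZero.exp_nsmul, ← WithZero.exp_add,
            ← WithZero.exp_zero, WithZero.exp_le_exp, nsmul_eq_mul]
          have hmul : (((Rs.sup fun R => (-(R.ord z)).toNat) : ℕ) : ℤ) ≤
              (e' : ℤ) * (((Rs.sup fun R => (-(R.ord z)).toNat) : ℕ) : ℤ) :=
            le_mul_of_one_le_left (by positivity) (by exact_mod_cast he0)
          rw [mul_neg]
          omega
      have h5 := hA1le _ ((hA2mem _).1 h4 i) Q hQP
      rw [← Algebra.smul_def, map_smul, Finsupp.smul_apply, smul_eq_mul, map_mul, hsQ, one_mul] at h5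
      exact h5
    · intro hz
      rw [mem_integralClosure_image hF']
      intro R hR
      induction hz using Algebra.adjoin_induction with
      | mem x hx => obtain ⟨c, rfl⟩ := hx; exact hkR R c
      | algebraMap t =>
        obtain ⟨a, ha, hat⟩ := t.2
        rw [show algebraMap _ K'' t = algebraMap K' K'' a from hat.symm]
        exact (over_le_one_iff hR a).2 ha
      | add x y _ _ hx hy => exact Valuation.map_add_le _ hx hy
      | mul x y _ _ hx hy => rw [map_mul]; exact mul_le_one' hx hy
  · rintro ⟨hC1, hQs⟩
    refine SetLike.ext fun z => ⟨fun hz => ?_, fun hz => (mem_integralClosure_image hF P z).2 (hA2le z hz)⟩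
    rw [mem_integralClosure_image hF] at hz
    refine (hA2mem z).2 fun i => ?_
    rw [← hC1, mem_integralClosure_image hF]
    intro Q hQP
    have hzQ : z ∈ integralClosure (Q.O.toSubring.map (algebraMap K' K'')) K'' :=
      (mem_integralClosure_image hF' Q z).2 fun R hR => hz R ((hover R Q hR).1 hQP)
    rw [hQs Q hQP] at hzQ
    exact coords_of_mem_adjoin hb Q.O.toSubring (fun c => hkQ Q c) _
      (fun t ht => by obtain ⟨a, ha, rfl⟩ := ht; exact ⟨a, ha, rfl⟩) hzQ i

end Groth.Funfld2.Small.Tower
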